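import Cfsg.Agent.Lib.BlockSections.AbelianCount
import Cfsg.Agent.Lib.BrauerPairs.InducedBridge
import Cfsg.Agent.Lib.BrauerPairs.TransportPairs

/-!
# The local ranks at subgroups of an abelian defect group

The rank attached to a subgroup `Q` of an abelian maximal pair is the rank of the block of the
centraliser of `Q` below the pair; it can be computed inside the centraliser of any of its elements.
-/

set_option autoImplicit false
set_option linter.style.haveILetI false
set_option linter.unusedSectionVars false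

noncomputable section

namespace CfsgLib.BlockStar

open Cfsg CfsgLib.Blocks MonoidAlgebra CfsgLib.BrauerPairs CfsgLib.BrauerCharacters
open CfsgLib.BlockSections (belowBlock)

section Pair

variable {k : Type*} [Field k] {G : Type*} [Group G] [Finite G] {p : ℕ} [Fact p.Prime]
  [CharP k p] {P Q : Subgroup G} {f e : MonoidAlgebra k G}

theorem centralizer_sup_zpowers (v u : G) :
    Subgroup.centralizer ({v} : Set G) ⊓ Subgroup.centralizer ({u} : Set G) =
      Subgroup.centralizer ((Subgroup.zpowers v ⊔ Subgroup.zpowers u : Subgroup G) : Set G) := by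
  ext g
  rw [← centralizer_zpowers_eq v, ← centralizer_zpowers_eq u]
  simp only [← Subgroup.zpowers_le, le_inf_iff,
    Subgroup.le_centralizer_iff (H := Subgroup.zpowers g), sup_le_iff]

/-- Inclusion in an abelian pair is normal. -/
theorem normalLE_of_abelian (he : IsPair p (⊤ : Subgroup G) P e)
    (hab : ∀ x ∈ P, ∀ y ∈ P, x * y = y * x) (hle : PairLE p (⊤ : Subgroup G) Q f P e) :
    NormalLE p (⊤ : Subgroup G) Q f P e := by
  have hPN : P ≤ Subgroup.normalizer (Q : Set G) :=
    le_trans (fun a ha => Subgroup.mem_centralizer_iff.2 fun w hw => hab w (hle.le hw) a ha)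
      (Subgroup.centralizer_le_normalizer _)
  obtain ⟨e', hn, hle'⟩ := hle.normalLE_of_le_normalizer he hle.le le_rfl hPN
  rwa [(existsUnique_pairLE he le_rfl).unique hle' (PairLE.refl _ _ _ _)] at hn

/-- A block idempotent below an abelian pair. -/
theorem pairLE_of_brau (he : IsPair p (⊤ : Subgroup G) P e) (hQ : Q ≤ P)
    (hab : ∀ x ∈ P, ∀ y ∈ P, x * y = y * x)
    (hf : IsBlockIdem (Subgroup.centralizer (Q : Set G)) f) (hbr : brau P f * e = e) :
    PairLE p (⊤ : Subgroup G) Q f P e := by
  have hPC : P ≤ Subgroup.centralizer (Q : Set G) := fun a ha =>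
    Subgroup.mem_centralizer_iff.2 fun w hw => hab w (hQ hw) a ha
  exact NormalLE.pairLE ⟨⟨he.1.to_le hQ, le_top, by rwa [cenIn_top]⟩, he, hQ,
    hPC.trans (Subgroup.centralizer_le_normalizer _), fixedBy_anti hPC (mem_ctr.1 hf.mem).2, hbr⟩

end Pair

section Image

variable {G : Type*} [Group G] [Finite G] {H : Type*} [Group H] [Finite H]
  {M : Ideal AlgInt} [M.IsPrime] {p : ℕ}

/-- A block of a subgroup carried along an injective homomorphism. -/
theorem exists_image_block {φ : H →* G} (hφ : Function.Injective φ) {K : Subgroup H}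
    {K' : Subgroup G} (hK : K.map φ = K') {b : Set (IrrCharacter K)} (hb : IsPBlock M b) :
    ∃ b' : Set (IrrCharacter K'), IsPBlock M b' ∧ blockRank p b' = blockRank p b ∧
      subIdem M K' b' = mapG φ (subIdem M K b) := by
  let σ : K' ≃* K := (MulEquiv.subgroupCongr hK.symm).trans (K.equivMapOfInjective φ hφ).symm
  have hσ : ∀ g : K', φ (σ g : H) = (g : G) := fun g => by
    show φ (((K.equivMapOfInjective φ hφ).symm (MulEquiv.subgroupCongr hK.symm g) : K) : H) = _
    rw [← Subgroup.coe_equivMapOfInjective_apply K φ hφ, MulEquiv.apply_symm_apply]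
    rfl
  refine ⟨compIrr σ '' b, isPBlock_image_compIrr σ hb, BlockSections.blockRank_image_compIrr p σ b,
    ?_⟩
  ext g
  by_cases hg : g ∈ K'
  · have h1 := hσ ⟨g, hg⟩
    simp only at h1
    conv_rhs => rw [← h1, coeff_mapG_apply hφ, coeff_redElem, subgroupBlockCoeff,
      dif_pos (σ ⟨g, hg⟩).2, Subtype.coe_eta]
    rw [coeff_redElem, subgroupBlockCoeff, dif_pos hg, blockCoeff_image_compIrr]
  · rw [coeff_redElem, subgroupBlockCoeff, dif_neg hg, redC_zero]
    have hs : mapG φ (subIdem M K b) ∈ supp (Res M) K' :=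
      hK ▸ (mapG_mem_supp_iff hφ).2 (mem_ctr.1 (isBlockIdem_subIdem (M := M) hb).mem).1
    exact (hs g hg).symm

end Image

variable {G : Type*} [Group G] [Finite G] {p : ℕ} [Fact p.Prime] {M : Ideal AlgInt} [M.IsPrime]
  {B : Set (IrrCharacter G)} {P : Subgroup G} {e : MonoidAlgebra (Res M) G}

open scoped Classical in
/-- The rank of the block of the centraliser of `Q` below the pair. -/
def pairRank (p : ℕ) (P : Subgroup G) (e : MonoidAlgebra (Res M) G) (Q : Subgroup G) : ℕ :=
  if h : ∃ b : Set (IrrCharacter (Subgroup.centralizer (Q : Set G))),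
      IsPBlock M b ∧ PairLE p (⊤ : Subgroup G) Q (subIdem M _ b) P e
  then blockRank p h.choose else 0

variable [CharP (Res M) p] [IsAlgClosed (Res M)]
  (hM : IsPModular p M) (hB : IsPBlock M B)
  (hmax : IsMaxPair p (⊤ : Subgroup G) (redElem M (blockCoeff B)) P e)
include hM hB hmax

omit hM hB in
/-- The rank is read off any block with the right idempotent. -/
theorem pairRank_eq {Q : Subgroup G} {K : Subgroup G}
    (hK : K = Subgroup.centralizer (Q : Set G)) {b : Set (IrrCharacter K)} (hb : IsPBlock M b)
    (hle : PairLE p (⊤ : Subgroup G) Q (subIdem M K b) P e) :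
    blockRank p b = pairRank (M := M) p P e Q := by
  classical
  subst hK
  have h : ∃ b : Set (IrrCharacter (Subgroup.centralizer (Q : Set G))),
      IsPBlock M b ∧ PairLE p (⊤ : Subgroup G) Q (subIdem M _ b) P e := ⟨b, hb, hle⟩
  rw [pairRank, dif_pos h]
  obtain ⟨h1, h2⟩ := h.choose_spec
  rw [subIdem_injective hb h1 ((existsUnique_pairLE hmax.1.1 hle.le).unique hle h2)]

theorem blockRank_belowBlock {v : G} (hv : v ∈ P) :
    blockRank p (belowBlock (M := M) p P e v) = pairRank (M := M) p P e (Subgroup.zpowers v) :=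
  pairRank_eq hmax (centralizer_zpowers_eq v).symm (BlockSections.belowBlock_spec hM hB hmax hv).1
    (BlockSections.belowBlock_spec hM hB hmax hv).2.1

theorem blockRank_belowBlock_one :
    blockRank p (belowBlock (M := M) p P e 1) = blockRank p B := by
  obtain ⟨b, -, -, hrk, huniq⟩ := BlockSections.exists_block_one (p := p) hM hB
  rw [huniq _ (BlockSections.belowBlock_spec hM hB hmax P.one_mem).2.2, hrk]

variable (hab : ∀ x ∈ P, ∀ y ∈ P, x * y = y * x)
include hab

omit hM hB hmax in
theorem le_centralizer_of_mem {v : G} (hv : v ∈ P) : P ≤ Subgroup.centralizer ({v} : Set G) :=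
  fun a ha => Subgroup.mem_centralizer_singleton_iff.2 (hab a ha v hv)

/-- The pair seen inside the centraliser of one of the elements of its group. -/
theorem exists_local {v : G} (hv : v ∈ P) :
    ∃ e' : MonoidAlgebra (Res M) (Subgroup.centralizer ({v} : Set G)),
      mapG (Subgroup.centralizer ({v} : Set G)).subtype e' = e ∧
      IsMaxPair p (⊤ : Subgroup (Subgroup.centralizer ({v} : Set G)))
        (redElem M (blockCoeff (belowBlock (M := M) p P e v)))
        (P.subgroupOf (Subgroup.centralizer ({v} : Set G))) e' := by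
  have hb := isBlockIdem_redElem_blockCoeff (M := M) hB
  obtain ⟨hbl, hle, -⟩ := BlockSections.belowBlock_spec hM hB hmax hv
  have hn := normalLE_of_abelian hmax.1.1 hab hle
  have hloc := hmax.local_of_abelian hb hab hn
  rw [cenIn_top, centralizer_zpowers_eq] at hloc
  set C := Subgroup.centralizer ({v} : Set G)
  have hφ := C.subtype_injective
  have hPC : P ≤ C := le_centralizer_of_mem hab hv
  have hP' : (P.subgroupOf C).map C.subtype = P := Subgroup.map_subgroupOf_eq_of_le hPC
  have hcen : (cenIn (⊤ : Subgroup C) (P.subgroupOf C)).map C.subtype = cenIn C P := by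
    rw [map_cenIn hφ, map_top_subtype, hP']
  obtain ⟨e', -, he'⟩ := exists_of_isBlockIdem_map hφ (hcen.symm ▸ hloc.1.1.2.2)
  have hbid : mapG C.subtype (redElem M (blockCoeff (belowBlock (M := M) p P e v))) =
      subIdem M C (belowBlock (M := M) p P e v) := (redElem_subgroupBlockCoeff C _).symm
  refine ⟨e', he', PairOf.isMaxPair_of_card ?_ fun R g hR => ?_⟩
  · rw [← pairOf_mapG_iff hφ, map_top_subtype, hP', he', hbid]
    exact hloc.1
  · have hR' := (pairOf_mapG_iff hφ).2 hR
    rw [map_top_subtype, hbid] at hR'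
    have h := hloc.card_le (isBlockIdem_subIdem hbl) hR'
    rwa [Subgroup.card_map_of_injective hφ, ← hP', Subgroup.card_map_of_injective hφ] at h

omit hM hB hmax in
theorem mem_pairStab_local {v : G} (hv : v ∈ P)
    {e' : MonoidAlgebra (Res M) (Subgroup.centralizer ({v} : Set G))}
    (he' : mapG (Subgroup.centralizer ({v} : Set G)).subtype e' = e)
    (t : Subgroup.centralizer ({v} : Set G)) :
    t ∈ pairStab (⊤ : Subgroup (Subgroup.centralizer ({v} : Set G)))
        (P.subgroupOf (Subgroup.centralizer ({v} : Set G))) e' ↔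
      (t : G) ∈ pairStab (⊤ : Subgroup G) P e := by
  rw [← mem_pairStab_map_iff (Subgroup.centralizer ({v} : Set G)).subtype_injective,
    map_top_subtype, Subgroup.map_subgroupOf_eq_of_le (le_centralizer_of_mem hab hv), he',
    mem_pairStab, mem_pairStab]
  exact ⟨fun h => ⟨Subgroup.mem_top _, h.2⟩, fun h => ⟨t.2, h.2⟩⟩

omit hM hB hmax in
theorem abelian_local (C : Subgroup G) :
    ∀ x ∈ P.subgroupOf C, ∀ y ∈ P.subgroupOf C, x * y = y * x := fun x hx y hy =>
  Subtype.ext (hab x hx y hy)

/-- Two-step local ranks. -/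
theorem blockRank_belowBlock_local {v : G} (hv : v ∈ P)
    {e' : MonoidAlgebra (Res M) (Subgroup.centralizer ({v} : Set G))}
    (he' : mapG (Subgroup.centralizer ({v} : Set G)).subtype e' = e)
    (hmax' : IsMaxPair p (⊤ : Subgroup (Subgroup.centralizer ({v} : Set G)))
      (redElem M (blockCoeff (belowBlock (M := M) p P e v)))
      (P.subgroupOf (Subgroup.centralizer ({v} : Set G))) e')
    {u : Subgroup.centralizer ({v} : Set G)} (hu : (u : G) ∈ P) :
    blockRank p (belowBlock (M := M) p (P.subgroupOf (Subgroup.centralizer ({v} : Set G))) e' u) =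
      pairRank (M := M) p P e (Subgroup.zpowers v ⊔ Subgroup.zpowers (u : G)) := by
  have hφ := (Subgroup.centralizer ({v} : Set G)).subtype_injective
  have hbl := (BlockSections.belowBlock_spec hM hB hmax hv).1
  obtain ⟨hb2, hle2, -⟩ := BlockSections.belowBlock_spec hM hbl hmax' (u := u) (Subgroup.mem_subgroupOf.2 hu)
  have hn := normalLE_of_abelian hmax'.1.1 (abelian_local hab _) hle2
  have hK : (Subgroup.centralizer ({u} : Set (Subgroup.centralizer ({v} : Set G)))).map
      (Subgroup.centralizer ({v} : Set G)).subtype =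
      Subgroup.centralizer ((Subgroup.zpowers v ⊔ Subgroup.zpowers (u : G) : Subgroup G) : Set G) := by
    rw [← centralizer_sup_zpowers]
    ext g
    constructor
    · rintro ⟨c, hc, rfl⟩
      exact ⟨c.2, Subgroup.mem_centralizer_singleton_iff.2
        (congrArg Subtype.val (Subgroup.mem_centralizer_singleton_iff.1 hc))⟩
    · rintro ⟨hgC, hgu⟩
      exact ⟨⟨g, hgC⟩, Subgroup.mem_centralizer_singleton_iff.2
        (Subtype.ext (Subgroup.mem_centralizer_singleton_iff.1 hgu)), rfl⟩
  obtain ⟨b, hb, hrk, hid⟩ := exists_image_block (p := p) hφ hK hb2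
  rw [← hrk]
  refine pairRank_eq hmax rfl hb ?_
  refine pairLE_of_brau hmax.1.1 (sup_le (Subgroup.zpowers_le.2 hv) (Subgroup.zpowers_le.2 hu))
    hab (isBlockIdem_subIdem hb) ?_
  have h := congrArg (mapG (Subgroup.centralizer ({v} : Set G)).subtype) hn.2.2.2.2.2
  rw [map_mul, ← mapG_brau hφ, Subgroup.map_subgroupOf_eq_of_le (le_centralizer_of_mem hab hv),
    he'] at h
  rw [hid]
  exact h

end CfsgLib.BlockStar
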