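import Cfsg.Agent.Lib.BlockStar.Nonvanishing
import Cfsg.Agent.Lib.BlockSections.AbelianCount
import Cfsg.Agent.Lib.BrauerCharacters.Rank

/-!
# The linear characters trivial on the moved part of an abelian defect group

They act freely on the block; comparing the multiplicities of the characters of this group in the
permutation action gives equal weighted rank sums over the cosets of the moved part.
-/

set_option autoImplicit false
set_option linter.style.haveILetI false
set_option linter.unusedSectionVars false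

noncomputable section

namespace CfsgLib.BlockStar

open Cfsg CfsgLib.Blocks MonoidAlgebra CfsgLib.BrauerPairs
open CfsgLib.BrauerCharacters (cenElem commute_cenElem centralVal_spec centralVal blockFinset
  mem_blockFinset)
open CfsgLib.BlockSections (belowBlock)
open scoped ComplexConjugate commutatorElement

section Moved

variable {k : Type*} [Field k] [IsAlgClosed k] {G : Type*} [Group G] [Finite G] {p : ℕ}
  [Fact p.Prime] [CharP k p] {P : Subgroup G} {b e0 : MonoidAlgebra k G}

open scoped Classical in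
/-- The kernel of the product over the inertial quotient contains the moved part and meets its
fixed points trivially. -/
theorem exists_moved (hb : IsBlockIdem (⊤ : Subgroup G) b)
    (hmax : IsMaxPair p (⊤ : Subgroup G) b P e0) (hab : ∀ x ∈ P, ∀ y ∈ P, x * y = y * x) :
    ∃ N : Subgroup P, commutator P ≤ N ∧
      (∀ t ∈ pairStab (⊤ : Subgroup G) P e0, ∀ v w : P, (w : G) = t * (v : G) * t⁻¹ →
        v⁻¹ * w ∈ N) ∧
      ∀ w ∈ N, (∀ t ∈ pairStab (⊤ : Subgroup G) P e0, t * (w : G) * t⁻¹ = w) → w = 1 := by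
  set T := pairStab (⊤ : Subgroup G) P e0
  set A := (stabAut (⊤ : Subgroup G) P e0).range with hA
  letI : CommGroup P := { (inferInstance : Group P) with
    mul_comm := fun x y => Subtype.ext (hab x x.2 y y.2) }
  haveI : Finite A := Finite.of_surjective _ (stabAut (⊤ : Subgroup G) P e0).rangeRestrict_surjective
  haveI := Fintype.ofFinite A
  let φ : P →* P :=
    { toFun := fun v => ∏ a : A, (a : MulAut P) v
      map_one' := Finset.prod_eq_one fun a _ => map_one _
      map_mul' := fun v w => by rw [← Finset.prod_mul_distrib]; simp only [map_mul] }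
  refine ⟨φ.ker, ?_, fun t ht v w hw => ?_, fun w hwN hfix => ?_⟩
  · rw [commutator_def, Subgroup.commutator_le]
    intro x _ y _
    rw [MonoidHom.mem_ker]
    refine (congrArg φ (Subtype.ext ?_ : (⁅x, y⁆ : P) = 1)).trans (map_one φ)
    show (x : G) * y * (x : G)⁻¹ * (y : G)⁻¹ = 1
    rw [hab x x.2 y y.2]
    group
  · let a0 : A := (stabAut (⊤ : Subgroup G) P e0).rangeRestrict ⟨t, ht⟩
    have hwa : w = (a0 : MulAut P) v := Subtype.ext hw
    rw [MonoidHom.mem_ker, map_mul, map_inv, inv_mul_eq_one, hwa]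
    exact (Fintype.prod_equiv (Equiv.mulRight a0) _ _ fun a => rfl).symm
  · have hfix' : ∀ a : A, (a : MulAut P) w = w := by
      rintro ⟨_, ⟨t, rfl⟩⟩
      exact Subtype.ext (hfix t t.2)
    have h1 : w ^ Nat.card A = 1 := by
      have h2 : ∏ a : A, (a : MulAut P) w = 1 := hwN
      rwa [Finset.prod_congr rfl (fun a _ => hfix' a), Finset.prod_const, Finset.card_univ,
        ← Nat.card_eq_fintype_card] at h2
    have hp : ¬ p ∣ Nat.card A := by
      have hPC : P ≤ cenIn (⊤ : Subgroup G) P := le_inf le_top fun u hu =>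
        Subgroup.mem_centralizer_iff.2 fun v hv => hab v hv u hu
      have h3 := hmax.not_dvd_relIndex hb
      rw [sup_eq_right.2 hPC] at h3
      rwa [hA, ← Subgroup.index_ker, ker_stabAut]
    obtain ⟨n, hn⟩ := IsPGroup.iff_orderOf.1 hmax.1.1.1 w
    have hd : orderOf w ∣ Nat.card A := orderOf_dvd_of_pow_eq_one h1
    rcases Nat.eq_zero_or_pos n with rfl | hpos
    · rw [pow_zero] at hn; exact orderOf_eq_one_iff.1 hn
    · exact absurd ((dvd_pow_self p hpos.ne').trans (hn ▸ hd)) hp

end Moved

variable {G : Type*} [Group G] [Fintype G] {M : Ideal AlgInt} [M.IsPrime] {p : ℕ} [Fact p.Prime]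
  {B : Set (IrrCharacter G)} {P : Subgroup G} {e0 : MonoidAlgebra (Res M) G}

/-- Block parts of two combinations on a section. -/
theorem sum_combination_mul_conj (hM : IsPModular p M) {C : Subgroup G} [Fintype C] {y : C}
    (hy : ∀ c : C, Commute y c) {ι : Type*} (I : Finset ι) (b : ι → Set (IrrCharacter C))
    (hb : ∀ i ∈ I, IsPBlock M (b i)) (hinj : Set.InjOn b ↑I) (α : ι → ℂ) (χ : IrrCharacter G) :
    ∑ s : C, (if p ∣ orderOf s then 0 else
        (∑ i ∈ I, α i * subFun C (b i) χ (y * s)) * conj (∑ i ∈ I, subFun C (b i) χ (y * s))) =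
      ∑ i ∈ I, α i * ∑ s : C, (if p ∣ orderOf s then 0 else
        subFun C (b i) χ (y * s) * conj (subFun C (b i) χ (y * s))) := by
  classical
  have hsplit : ∀ s : C, (if p ∣ orderOf s then 0 else
        (∑ i ∈ I, α i * subFun C (b i) χ (y * s)) * conj (∑ i ∈ I, subFun C (b i) χ (y * s))) =
      ∑ i ∈ I, ∑ j ∈ I, α i * (if p ∣ orderOf s then 0 else
        subFun C (b i) χ (y * s) * conj (subFun C (b j) χ (y * s))) := by
    intro s
    split_ifs
    · simp
    · rw [map_sum, Finset.sum_mul_sum]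
      exact Finset.sum_congr rfl fun i _ => Finset.sum_congr rfl fun j _ => mul_assoc _ _ _
  rw [Finset.sum_congr rfl fun s _ => hsplit s, Finset.sum_comm]
  refine Finset.sum_congr rfl fun i hi => ?_
  rw [Finset.sum_comm, Finset.sum_eq_single i, Finset.mul_sum]
  · intro j hj hji
    rw [← Finset.mul_sum, sum_subFun_mul_conj_eq_zero hM hy (hb i hi) (hb j hj)
      (fun e => hji (hinj hi hj e).symm), mul_zero]
  · exact fun h => absurd hi h

/-- The square sum over the block of the parts at a pair. -/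
def pairWeight (p : ℕ) (B : Set (IrrCharacter G)) (y : G) (c : MonoidAlgebra (Res M) G) : ℂ :=
  ∑ χ ∈ blockFinset B, ∑ g ∈ secSet p y, val χ g c * conj (val χ g c)

theorem pairWeight_conj {y : G} {c : MonoidAlgebra (Res M) G} (h : G) (hy : ∀ g ∈ secSet p y,
    Commute (single g (1 : Res M)) c) (hc : c * c = c) :
    pairWeight p B (h * y * h⁻¹) (conjA h c) = pairWeight p B y c := by
  refine Finset.sum_congr rfl fun χ _ => ?_
  refine (Finset.sum_bij' (fun g _ => h * g * h⁻¹) (fun g _ => h⁻¹ * g * h) ?_ ?_ ?_ ?_ ?_).symm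
  · intro g hg; exact mem_secSet.2 (Blocks.IsPPart.conj (mem_secSet.1 hg) h)
  · intro g hg
    have := Blocks.IsPPart.conj (mem_secSet.1 hg) h⁻¹
    refine mem_secSet.2 ?_
    simpa [mul_assoc] using this
  · intro g _; group
  · intro g _; group
  · intro g hg; rw [val_conj χ h hc (hy g hg)]

theorem ppart_of_mem_secSet {y g : G} (h : g ∈ secSet p y) : ppart p g = y :=
  ppart_eq (mem_secSet.1 h)

/-- At a subsection the square sum is the rank times the order of the centraliser. -/
theorem pairWeight_eq (hM : IsPModular p M) {y : G} (hy : ∃ k : ℕ, orderOf y = p ^ k)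
    {b : Set (IrrCharacter (Subgroup.centralizer ({y} : Set G)))}
    (hind : IsInducedBlock M (Subgroup.centralizer ({y} : Set G)) b B) :
    pairWeight p B y (subIdem M _ b) =
      (Nat.card (Subgroup.centralizer ({y} : Set G)) : ℂ) * (blockRank p b : ℂ) := by
  classical
  haveI : Fintype (Subgroup.centralizer ({y} : Set G)) := Fintype.ofFinite _
  haveI := Fintype.ofFinite (IrrCharacter G)
  have hb := hind.1
  rw [pairWeight, Finset.sum_congr rfl fun χ _ => sum_secSet_eq rfl hy (yC := cenElem y) rfl _,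
    Finset.sum_comm]
  rw [← BrauerCharacters.sum_regInner_self_eq_blockRank (BrauerCharacters.weakOrth hM hb),
    Finset.mul_sum]
  have hval : ∀ (χ : IrrCharacter G) (s : Subgroup.centralizer ({y} : Set G)),
      val χ ((cenElem y * s : Subgroup.centralizer ({y} : Set G)) : G) (subIdem M _ b) =
        BrauerCharacters.secPart y b χ s := fun χ s => by
    rw [val_subIdem χ _ hb]; rfl
  simp only [hval]
  rw [Finset.sum_congr rfl (g := fun s : Subgroup.centralizer ({y} : Set G) =>
    if p ∣ orderOf s then 0 else ∑ ξ ∈ blockFinset b,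
      (ξ : Subgroup.centralizer ({y} : Set G) → ℂ) s *
        conj ((ξ : Subgroup.centralizer ({y} : Set G) → ℂ) s)) (fun s _ => ?_)]
  · rw [Finset.sum_congr rfl (s₁ := blockFinset b) (fun ξ _ => by
      rw [BrauerCharacters.regInner, classInner, ← mul_assoc,
        mul_inv_cancel₀ (Nat.cast_ne_zero.2 Nat.card_pos.ne'), one_mul]), Finset.sum_comm]
    refine Finset.sum_congr rfl fun s _ => ?_
    split_ifs with hs
    · exact (Finset.sum_eq_zero fun ξ _ => by
        rw [BrauerCharacters.pRegularPart_apply, if_pos hs, zero_mul]).symm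
    · exact Finset.sum_congr rfl fun ξ _ => by rw [BrauerCharacters.pRegularPart_apply, if_neg hs]
  · by_cases hs : p ∣ orderOf s
    · simp [hs]
    · simp only [hs, if_false]
      rw [Finset.sum_subset (Finset.subset_univ _) (fun χ _ hχ => by
          rw [BrauerCharacters.secPart_eq_zero_of_isInducedBlock y hy hM hind (by simpa using hχ) hs,
            zero_mul]),
        BrauerCharacters.sum_secPart_mul_conj y b hy hM hb hs hs]
      refine Finset.sum_congr rfl fun ξ _ => ?_
      obtain ⟨hpow, hmul⟩ := centralVal_spec ξ (commute_cenElem y)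
      have hnorm := CfsgLib.CharTheory.norm_eq_one_of_pow_eq_one'
        (isOfFinOrder_of_finite _).orderOf_pos.ne' hpow
      rw [hmul, map_mul, mul_mul_mul_comm, Complex.mul_conj', hnorm]
      simp

variable [CharP (Res M) p] [IsAlgClosed (Res M)]

open scoped Classical in
/-- The weight of an element of `P`: order of its inertial centraliser times the local rank. -/
def weight (p : ℕ) (P : Subgroup G) (e0 : MonoidAlgebra (Res M) G) (v : G) : ℕ :=
  Nat.card ↥(pairStab (⊤ : Subgroup G) P e0 ⊓ Subgroup.centralizer ({v} : Set G)) *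
    blockRank p (belowBlock (M := M) p P e0 v)

variable (hM : IsPModular p M) (hB : IsPBlock M B)
  (hmax : IsMaxPair p (⊤ : Subgroup G) (redElem M (blockCoeff B)) P e0)
  (hab : ∀ x ∈ P, ∀ y ∈ P, x * y = y * x)
include hM hB hmax hab

open scoped Classical in
/-- The sum of a scaled weight over all pairs, read on `P`. -/
theorem sum_pairs_eq {lam : P →* ℂˣ} (hlam : FusInv p e0 lam) :
    (Nat.card (pairStab (⊤ : Subgroup G) P e0) : ℂ) *
        ∑ y ∈ Finset.univ.filter (fun y : G => ∃ k : ℕ, orderOf y = p ^ k),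
          ∑ c ∈ blocksAt M y, Lam p e0 lam y c * pairWeight p B y c =
      (Nat.card G : ℂ) * ∑ v : P, (weight (M := M) p P e0 v : ℂ) * (lam v : ℂ) := by
  classical
  have hb := isBlockIdem_redElem_blockCoeff (M := M) hB
  set T := pairStab (⊤ : Subgroup G) P e0 with hT
  set eB := redElem M (blockCoeff B)
  set β : G → MonoidAlgebra (Res M) G := fun v => subIdem M _ (belowBlock (M := M) p P e0 v)
    with hβ
  set Φ : G × P → G × MonoidAlgebra (Res M) G :=
    fun x => (x.1 * (x.2 : G) * x.1⁻¹, conjA x.1 (β x.2)) with hΦ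
  set F : G × MonoidAlgebra (Res M) G → ℂ :=
    fun π => Lam p e0 lam π.1 π.2 * pairWeight p B π.1 π.2 with hF
  set Pairs : Finset (G × MonoidAlgebra (Res M) G) :=
    (Finset.univ.filter (fun y : G => ∃ k : ℕ, orderOf y = p ^ k)).biUnion
      fun y => ((blocksAt M y).filter fun c =>
        PairOf p (⊤ : Subgroup G) eB (Subgroup.zpowers y) c).image (Prod.mk y) with hPairs
  have hmemPairs : ∀ π, π ∈ Pairs ↔ (∃ k : ℕ, orderOf π.1 = p ^ k) ∧
      PairOf p (⊤ : Subgroup G) eB (Subgroup.zpowers π.1) π.2 := by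
    rintro ⟨y, c⟩
    simp only [hPairs, Finset.mem_biUnion, Finset.mem_filter, Finset.mem_univ, true_and,
      Finset.mem_image, Prod.mk.injEq]
    constructor
    · rintro ⟨y', hy', c', ⟨-, hc'⟩, rfl, rfl⟩; exact ⟨hy', hc'⟩
    · rintro ⟨hy, hc⟩; exact ⟨y, hy, c, ⟨mem_blockIdems.2 hc.1.2.2, hc⟩, rfl, rfl⟩
  have hlhs : ∑ y ∈ Finset.univ.filter (fun y : G => ∃ k : ℕ, orderOf y = p ^ k),
      ∑ c ∈ blocksAt M y, Lam p e0 lam y c * pairWeight p B y c = ∑ π ∈ Pairs, F π := by
    rw [hPairs, Finset.sum_biUnion]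
    · refine Finset.sum_congr rfl fun y _ => ?_
      rw [Finset.sum_image (fun a _ b _ h => (Prod.mk.injEq _ _ _ _ ▸ h).2), Finset.sum_filter]
      refine Finset.sum_congr rfl fun c _ => ?_
      split_ifs with hp
      · rfl
      · rw [Lam_eq_zero_of_not_pairOf hb hmax lam hp, zero_mul]
    · intro y _ y' _ hne
      refine Finset.disjoint_left.2 fun π h h' => hne ?_
      obtain ⟨c, -, rfl⟩ := Finset.mem_image.1 h
      obtain ⟨c', -, h''⟩ := Finset.mem_image.1 h'
      exact (congrArg Prod.fst h'').symm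
  have hspec : ∀ v : P, PairLE p (⊤ : Subgroup G) (Subgroup.zpowers (v : G)) (β v) P e0 :=
    fun v => (BlockSections.belowBlock_spec hM hB hmax v.2).2.1
  have hPhi_mem : ∀ x : G × P, Φ x ∈ Pairs := by
    intro x
    obtain ⟨k, hk⟩ := BlockSections.isPElem_of_mem hM hB hmax x.2.2
    refine (hmemPairs _).2 ⟨⟨k, by rw [← hk]; exact (MulAut.conj x.1).orderOf_eq (x.2 : G)⟩, ?_⟩
    have := ((hspec x.2).pairOf_iff hb).2 hmax.1 |>.conj hb (Subgroup.mem_top x.1)
    rwa [cj_zpowers] at this
  -- the function pulled back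
  set a : P → ℕ := fun v => Nat.card ↥(T ⊓ Subgroup.centralizer ({(v : G)} : Set G)) with ha
  set cC : P → ℕ := fun v => Nat.card (Subgroup.centralizer ({(v : G)} : Set G)) with hcC
  have hFPhi : ∀ x : G × P, F (Φ x) = (lam x.2 : ℂ) *
      ((cC x.2 : ℂ) * (blockRank p (belowBlock (M := M) p P e0 (x.2 : G)) : ℂ)) := by
    intro x
    obtain ⟨hbl, hle, hind⟩ := BlockSections.belowBlock_spec hM hB hmax x.2.2
    have e1 : (1 : G) * (x.2 : G) * 1⁻¹ = x.2 := by group
    have hblock : IsBlockIdem (cenIn (⊤ : Subgroup G) (Subgroup.zpowers (x.2 : G))) (β x.2) :=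
      (hle.isPair_left hmax.1.1).2.2
    show Lam p e0 lam (x.1 * (x.2 : G) * x.1⁻¹) (conjA x.1 (β x.2)) *
      pairWeight p B (x.1 * (x.2 : G) * x.1⁻¹) (conjA x.1 (β x.2)) = _
    rw [Lam_conj hlam, Lam_eq hlam (x := 1) (by rw [conjA_one, e1]; exact hle), e1,
      lamAt_of_mem _ x.2.2, pairWeight_conj x.1 (fun g hg => by
        have h4 : IsBlockIdem (cenIn (⊤ : Subgroup G) (Subgroup.zpowers (ppart p g)))
            (β x.2) := by rw [ppart_of_mem_secSet hg]; exact hblock
        exact (commute_block h4 0).1) hblock.mul_self,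
      pairWeight_eq hM (BlockSections.isPElem_of_mem hM hB hmax x.2.2) hind]
  have hfib : ∀ π ∈ Pairs, ∑ x ∈ Finset.univ.filter (fun x : G × P => Φ x = π),
      (a x.2 : ℂ) / (cC x.2 : ℂ) = (Nat.card T : ℂ) := by
    intro π hπ
    obtain ⟨-, hpo⟩ := (hmemPairs π).1 hπ
    obtain ⟨c, -, hc⟩ := hpo.exists_conj_le hb hmax
    rw [cj_zpowers] at hc
    have hvP : c * π.1 * c⁻¹ ∈ P := hc.le (Subgroup.mem_zpowers _)
    set v0 : P := ⟨c * π.1 * c⁻¹, hvP⟩
    have hβ0 : β (v0 : G) = conjA c π.2 :=
      (existsUnique_pairLE hmax.1.1 (Subgroup.zpowers_le.2 hvP)).unique (hspec v0) hc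
    set C := Subgroup.centralizer ({(v0 : G)} : Set G) with hC
    haveI := Fintype.ofFinite T
    haveI := Fintype.ofFinite C
    have htP : ∀ t : T, (t : G) * (v0 : G) * (t : G)⁻¹ ∈ P := fun t =>
      (BlockSections.conjA_belowBlock hM hB hmax v0.2 t.2).1
    let ψ : T × C → G × P := fun s =>
      (c⁻¹ * (s.2 : G) * (s.1 : G)⁻¹, ⟨(s.1 : G) * (v0 : G) * (s.1 : G)⁻¹, htP s.1⟩)
    have hψmem : ∀ s, ψ s ∈ Finset.univ.filter (fun x : G × P => Φ x = π) := by
      intro s
      refine Finset.mem_filter.2 ⟨Finset.mem_univ _, ?_⟩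
      have hcom : (s.2 : G) * (v0 : G) = (v0 : G) * (s.2 : G) :=
        Subgroup.mem_centralizer_singleton_iff.1 s.2.2
      refine Prod.ext ?_ ?_
      · show c⁻¹ * (s.2 : G) * (s.1 : G)⁻¹ * ((s.1 : G) * (v0 : G) * (s.1 : G)⁻¹) *
          (c⁻¹ * (s.2 : G) * (s.1 : G)⁻¹)⁻¹ = π.1
        rw [show c⁻¹ * (s.2 : G) * (s.1 : G)⁻¹ * ((s.1 : G) * (v0 : G) * (s.1 : G)⁻¹) *
          (c⁻¹ * (s.2 : G) * (s.1 : G)⁻¹)⁻¹ = c⁻¹ * ((s.2 : G) * (v0 : G) * (s.2 : G)⁻¹) * c by
          group, hcom, mul_inv_cancel_right]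
        show c⁻¹ * (c * π.1 * c⁻¹) * c = π.1
        group
      · show conjA (c⁻¹ * (s.2 : G) * (s.1 : G)⁻¹) (β ((s.1 : G) * (v0 : G) * (s.1 : G)⁻¹)) = π.2
        have hfix : conjA (s.2 : G) (β (v0 : G)) = β (v0 : G) :=
          (mem_ctr.1 (isBlockIdem_subIdem (M := M)
            (BlockSections.belowBlock_spec hM hB hmax v0.2).1).mem).2 _ s.2.2
        rw [show β ((s.1 : G) * (v0 : G) * (s.1 : G)⁻¹) = conjA (s.1 : G) (β (v0 : G)) from
          (BlockSections.conjA_belowBlock hM hB hmax v0.2 s.1.2).2.symm, ← conjA_mul,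
          inv_mul_cancel_right, conjA_mul, hfix, hβ0, conjA_inv_conjA]
    have hwconst : ∀ t : T, a ⟨(t : G) * (v0 : G) * (t : G)⁻¹, htP t⟩ = a v0 ∧
        cC ⟨(t : G) * (v0 : G) * (t : G)⁻¹, htP t⟩ = cC v0 := by
      intro t
      simp only [ha, hcC]
      rw [BlockSections.centralizer_cj_singleton]
      refine ⟨?_, Subgroup.card_map_of_injective (MulAut.conj (t : G)).injective⟩
      rw [show T ⊓ cj (t : G) (Subgroup.centralizer ({(v0 : G)} : Set G)) =
          cj (t : G) (T ⊓ Subgroup.centralizer ({(v0 : G)} : Set G)) by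
        rw [cj_inf, cj_of_mem t.2]]
      exact Subgroup.card_map_of_injective (MulAut.conj (t : G)).injective
    have hsurj : ∀ x ∈ Finset.univ.filter (fun x : G × P => Φ x = π), ∃ s, ψ s = x := by
      intro x hx
      have hx' := (Finset.mem_filter.1 hx).2
      have h1 : x.1 * (x.2 : G) * x.1⁻¹ = π.1 := congrArg Prod.fst hx'
      have h2 : conjA x.1 (β x.2) = π.2 := congrArg Prod.snd hx'
      obtain ⟨t, ht, htv⟩ := BlockSections.exists_stab_of_conj hM hB hmax hab v0.2 x.2.2
        (g := x.1⁻¹ * c⁻¹) (by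
          show x.1⁻¹ * c⁻¹ * (c * π.1 * c⁻¹) * (x.1⁻¹ * c⁻¹)⁻¹ = x.2
          rw [← h1]; group) (by
          show conjA (x.1⁻¹ * c⁻¹) (β (v0 : G)) = β (x.2 : G)
          rw [hβ0, conjA_mul, conjA_inv_conjA, ← h2, conjA_inv_conjA])
      refine ⟨(⟨t, ht⟩, ⟨c * x.1 * t, ?_⟩), ?_⟩
      · rw [hC, Subgroup.mem_centralizer_singleton_iff]
        calc c * x.1 * t * (v0 : G) = c * x.1 * (t * (v0 : G) * t⁻¹) * t := by group
          _ = c * (x.1 * (x.2 : G) * x.1⁻¹) * c⁻¹ * (c * x.1 * t) := by rw [htv]; group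
          _ = (v0 : G) * (c * x.1 * t) := by rw [h1]
      · refine Prod.ext ?_ (Subtype.ext htv)
        show c⁻¹ * (c * x.1 * t) * t⁻¹ = x.1
        group
    have hcount : (Finset.univ.filter (fun x : G × P => Φ x = π)).card * a v0 =
        Nat.card T * cC v0 := by
      simp only [ha, hcC, ← hC]
      rw [Nat.card_eq_fintype_card (α := T), Nat.card_eq_fintype_card (α := C),
        ← Fintype.card_prod, ← Finset.card_univ (α := T × C),
        Finset.card_eq_sum_card_fiberwise (f := ψ) (fun s _ => hψmem s), ← smul_eq_mul,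
        ← Finset.sum_const]
      refine Finset.sum_congr rfl fun x hx => ?_
      obtain ⟨⟨t, z⟩, rfl⟩ := hsurj x hx
      rw [Nat.card_eq_fintype_card, ← Finset.card_univ]
      refine Finset.card_bij (fun r _ => ((t * ⟨(r : G), (Subgroup.mem_inf.1 r.2).1⟩ : T),
        (z * ⟨(r : G), (Subgroup.mem_inf.1 r.2).2⟩ : C))) (fun r _ => ?_)
        (fun r _ r' _ h => Subtype.ext (by simpa using congrArg (fun q => ((q.2 : C) : G)) h))
        (fun s hs => ?_)
      · refine Finset.mem_filter.2 ⟨Finset.mem_univ _, Prod.ext ?_ (Subtype.ext ?_)⟩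
        · show c⁻¹ * ((z : G) * (r : G)) * ((t : G) * (r : G))⁻¹ = c⁻¹ * (z : G) * (t : G)⁻¹
          group
        · show (t : G) * (r : G) * (v0 : G) * ((t : G) * (r : G))⁻¹ =
            (t : G) * (v0 : G) * (t : G)⁻¹
          have hr := Subgroup.mem_centralizer_singleton_iff.1 (Subgroup.mem_inf.1 r.2).2
          rw [mul_assoc (t : G) (r : G), hr]
          group
      · have hs' := (Finset.mem_filter.1 hs).2
        have h1 : c⁻¹ * (s.2 : G) * (s.1 : G)⁻¹ = c⁻¹ * (z : G) * (t : G)⁻¹ :=
          congrArg Prod.fst hs'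
        have h2 : (s.1 : G) * (v0 : G) * (s.1 : G)⁻¹ = (t : G) * (v0 : G) * (t : G)⁻¹ :=
          congrArg (fun q : G × P => (q.2 : G)) hs'
        refine ⟨⟨(t : G)⁻¹ * (s.1 : G), Subgroup.mem_inf.2 ⟨mul_mem (inv_mem t.2) s.1.2, ?_⟩⟩,
          Finset.mem_univ _, ?_⟩
        · rw [Subgroup.mem_centralizer_singleton_iff]
          calc (t : G)⁻¹ * (s.1 : G) * (v0 : G)
              = (t : G)⁻¹ * ((s.1 : G) * (v0 : G) * (s.1 : G)⁻¹) * (s.1 : G) := by group
            _ = (v0 : G) * ((t : G)⁻¹ * (s.1 : G)) := by rw [h2]; group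
        · refine Prod.ext (Subtype.ext (mul_inv_cancel_left _ _)) (Subtype.ext ?_)
          show (z : G) * ((t : G)⁻¹ * (s.1 : G)) = (s.2 : G)
          calc (z : G) * ((t : G)⁻¹ * (s.1 : G)) = c * (c⁻¹ * (z : G) * (t : G)⁻¹) * (s.1 : G) := by
                group
            _ = _ := by rw [← h1]; group
    rw [Finset.sum_congr rfl (g := fun _ => (a v0 : ℂ) / (cC v0 : ℂ)) (fun x hx => by
      obtain ⟨s, rfl⟩ := hsurj x hx
      show (a ⟨(s.1 : G) * (v0 : G) * (s.1 : G)⁻¹, htP s.1⟩ : ℂ) /
        (cC ⟨(s.1 : G) * (v0 : G) * (s.1 : G)⁻¹, htP s.1⟩ : ℂ) = (a v0 : ℂ) / (cC v0 : ℂ)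
      rw [(hwconst s.1).1, (hwconst s.1).2]), Finset.sum_const, nsmul_eq_mul, ← mul_div_assoc,
      ← Nat.cast_mul, hcount, Nat.cast_mul, mul_div_assoc,
      div_self (Nat.cast_ne_zero.2 Nat.card_pos.ne'), mul_one]
  rw [hlhs, Finset.mul_sum]
  calc ∑ π ∈ Pairs, (Nat.card T : ℂ) * F π
      = ∑ π ∈ Pairs, ∑ x ∈ Finset.univ.filter (fun x : G × P => Φ x = π),
          (a x.2 : ℂ) / (cC x.2 : ℂ) * F (Φ x) := by
        refine Finset.sum_congr rfl fun π hπ => ?_
        rw [← hfib π hπ, Finset.sum_mul]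
        exact Finset.sum_congr rfl fun x hx => by rw [(Finset.mem_filter.1 hx).2]
    _ = ∑ x : G × P, (a x.2 : ℂ) / (cC x.2 : ℂ) * F (Φ x) :=
        Finset.sum_fiberwise_of_maps_to (fun x _ => hPhi_mem x) _
    _ = (Nat.card G : ℂ) * ∑ v : P, (weight (M := M) p P e0 v : ℂ) * (lam v : ℂ) := by
        rw [Fintype.sum_prod_type, Finset.sum_congr rfl fun g _ => Finset.sum_congr rfl
          (g := fun v : P => (weight (M := M) p P e0 v : ℂ) * (lam v : ℂ)) fun v _ => ?_,
          Finset.sum_const, Finset.card_univ, ← Nat.card_eq_fintype_card, nsmul_eq_mul]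
        rw [hFPhi]
        show (a v : ℂ) / (cC v : ℂ) * ((lam v : ℂ) * ((cC v : ℂ) *
          (blockRank p (belowBlock (M := M) p P e0 (v : G)) : ℂ))) = _
        have hne : (cC v : ℂ) ≠ 0 := Nat.cast_ne_zero.2 Nat.card_pos.ne'
        rw [weight]
        push_cast
        field_simp
        ring

open scoped Classical in
/-- The multiplicity identity for every coset of `N`. -/
theorem sum_weight_coset [M.IsMaximal] {N : Subgroup P} (hN : commutator P ≤ N)
    (hmove : ∀ t ∈ pairStab (⊤ : Subgroup G) P e0, ∀ v w : P, (w : G) = t * (v : G) * t⁻¹ →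
      v⁻¹ * w ∈ N) (z : P) :
    Nat.card (pairStab (⊤ : Subgroup G) P e0) * Nat.card B =
      N.index * ∑ v : P, (if z⁻¹ * v ∈ N then weight (M := M) p P e0 v else 0) := by
  classical
  have hb := isBlockIdem_redElem_blockCoeff (M := M) hB
  have hfus : ∀ lam ∈ trivChars N, FusInv p e0 lam := by
    intro lam hl u g c hu hgu
    have huP : u ∈ P := hu.le (Subgroup.mem_zpowers u)
    have hguP : g * u * g⁻¹ ∈ P := hgu.le (Subgroup.mem_zpowers _)
    obtain ⟨-, hleu, -⟩ := BlockSections.belowBlock_spec hM hB hmax huP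
    obtain ⟨-, hlev, -⟩ := BlockSections.belowBlock_spec hM hB hmax hguP
    have hc : c = subIdem M _ (belowBlock (M := M) p P e0 u) :=
      (existsUnique_pairLE hmax.1.1 hu.le).unique hu hleu
    have hd : conjA g c = subIdem M _ (belowBlock (M := M) p P e0 (g * u * g⁻¹)) :=
      (existsUnique_pairLE hmax.1.1 hgu.le).unique hgu hlev
    rw [hc] at hd
    obtain ⟨t, ht, htu⟩ := BlockSections.exists_stab_of_conj hM hB hmax hab huP hguP rfl hd
    have h := hl _ (hmove t ht ⟨u, huP⟩ ⟨g * u * g⁻¹, hguP⟩ htu.symm)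
    rw [map_mul, map_inv, inv_mul_eq_one] at h
    rw [lamAt_of_mem _ hguP, lamAt_of_mem _ huP, h]
  -- separation
  have hsep : ∀ x : P, ∑ᶠ lam : trivChars N, ((lam : P →* ℂˣ) x : ℂ) =
      if x ∈ N then (N.index : ℂ) else 0 := by
    intro x
    haveI : Finite (trivChars N) := Nat.finite_of_card_ne_zero (by
      rw [card_trivChars hN]; exact Subgroup.index_ne_zero_of_finite)
    haveI := Fintype.ofFinite (trivChars N)
    rw [finsum_eq_sum_of_fintype]
    split_ifs with hx
    · rw [Finset.sum_congr rfl (g := fun _ => (1 : ℂ)) (fun lam _ => by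
        rw [lam.2 x hx, Units.val_one]), Finset.sum_const, Finset.card_univ,
        ← Nat.card_eq_fintype_card, card_trivChars hN, nsmul_one]
    · set N' := N ⊔ Subgroup.zpowers x
      have hlt : N < N' := lt_of_le_of_ne le_sup_left fun h =>
        hx (h ▸ Subgroup.mem_sup_right (Subgroup.mem_zpowers x))
      obtain ⟨l0, hl0, hl0'⟩ : ∃ l0 ∈ trivChars N, l0 ∉ trivChars N' := by
        by_contra hcon
        push Not at hcon
        have heq : trivChars N' = trivChars N := le_antisymm (trivChars_anti le_sup_left) hcon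
        have h1 := card_trivChars (N := N') (hN.trans le_sup_left)
        rw [heq, card_trivChars hN] at h1
        exact (Subgroup.index_strictAnti hlt).ne h1.symm
      have hne : ((l0 x : ℂˣ) : ℂ) ≠ 1 := fun h => hl0' fun y hy => by
        have hker : N' ≤ l0.ker := sup_le (fun a ha => hl0 a ha)
          (Subgroup.zpowers_le.2 (Units.val_eq_one.1 h))
        exact hker hy
      have hmul : ((l0 x : ℂˣ) : ℂ) * ∑ lam : trivChars N, ((lam : P →* ℂˣ) x : ℂ) =
          ∑ lam : trivChars N, ((lam : P →* ℂˣ) x : ℂ) := by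
        rw [Finset.mul_sum]
        exact Fintype.sum_equiv (Equiv.mulLeft (⟨l0, hl0⟩ : trivChars N)) _ _ fun lam => by simp
      exact (mul_left_eq_self₀.1 hmul).resolve_left hne
  haveI : Finite (trivChars N) := Nat.finite_of_card_ne_zero (by
    rw [card_trivChars hN]; exact Subgroup.index_ne_zero_of_finite)
  haveI := Fintype.ofFinite (trivChars N)
  -- the trace of one character
  have htrace : ∀ lam : trivChars N,
      ∑ v : P, (weight (M := M) p P e0 v : ℂ) * ((lam : P →* ℂˣ) v : ℂ) =
        if (lam : P →* ℂˣ) = 1 then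
          (Nat.card (pairStab (⊤ : Subgroup G) P e0) : ℂ) * (Nat.card B : ℂ) else 0 := by
    intro lam
    set l : P →* ℂˣ := (lam : P →* ℂˣ) with hl
    have hfl := hfus l lam.2
    choose st hst1 hst2 hst3 using fun χ : {χ : IrrCharacter G // χ ∈ B} =>
      exists_star hM hB hmax hfl χ.2
    have hfix : ∀ χ, st χ = χ.1 → l = 1 := by
      intro χ h
      refine MonoidHom.ext fun u => ?_
      have huZ : (u : G) ∈ Subgroup.centralizer (P : Set G) :=
        Subgroup.mem_centralizer_iff.2 fun v hv => hab v hv u u.2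
      obtain ⟨c, g, hc, hg, hne⟩ := exists_val_ne_zero_of_central hM hB hmax χ.2 u.2 huZ
      have h1 := hst3 χ g c (by rw [hg]; exact mem_blockIdems.2 (hc.isPair_left hmax.1.1).2.2)
      rw [h, hg] at h1
      have h2 : Lam p e0 l (u : G) c = 1 := (mul_eq_right₀ hne).1 h1.symm
      have e : (1 : G) * (u : G) * 1⁻¹ = u := by group
      rw [Lam_eq hfl (x := 1) (by rwa [conjA_one, e]), e, lamAt_of_mem _ u.2] at h2
      exact Units.val_eq_one.1 h2
    have hone : l = 1 → ∀ χ, st χ = χ.1 := by
      intro h χ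
      refine eq_of_val_eq (M := M) (p := p) fun g c hc => ?_
      rw [hst3 χ g c hc]
      by_cases hp : PairOf p (⊤ : Subgroup G) (redElem M (blockCoeff B))
          (Subgroup.zpowers (ppart p g)) c
      · rw [h, Lam_one hb hmax hp (h ▸ hfl), one_mul]
      · rw [val_eq_zero_of_not_pairOf hM hB χ.2 (mem_blockIdems.1 hc) hp, mul_zero]
    have hpel : ∀ g : G, g ∈ (Finset.univ : Finset G) := Finset.mem_univ
    have hone' : ∀ χ : {χ : IrrCharacter G // χ ∈ B},
        ∑ y ∈ Finset.univ.filter (fun y : G => ∃ k : ℕ, orderOf y = p ^ k),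
          ∑ c ∈ blocksAt M y, Lam p e0 l y c *
            ∑ g ∈ secSet p y, val χ.1 g c * conj (val χ.1 g c) =
          if l = 1 then (Nat.card G : ℂ) else 0 := by
      intro χ
      have hcl := CharTheory.classInner_irrCharacter (st χ) χ.1
      rw [classInner] at hcl
      have hGne : (Nat.card G : ℂ) ≠ 0 := Nat.cast_ne_zero.2 Nat.card_pos.ne'
      have hsum : ∑ g : G, (st χ : G → ℂ) g * conj ((χ.1 : G → ℂ) g) =
          if l = 1 then (Nat.card G : ℂ) else 0 := by
        have h2 := congrArg ((Nat.card G : ℂ) * ·) hcl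
        simp only [mul_inv_cancel_left₀ hGne] at h2
        refine h2.trans ?_
        by_cases h : l = 1
        · rw [if_pos h, if_pos (hone h χ), mul_one]
        · rw [if_neg h, if_neg fun h' => h (hfix χ h'), mul_zero]
      rw [← hsum, ← sum_sum_secSet (p := p) (fun g => (st χ : G → ℂ) g * conj ((χ.1 : G → ℂ) g))]
      refine Finset.sum_congr rfl fun y hy => ?_
      have hy' := (Finset.mem_filter.1 hy).2
      haveI : Fintype (Subgroup.centralizer ({y} : Set G)) := Fintype.ofFinite _
      have hex : ∀ c ∈ blocksAt M y,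
          ∃ b : Set (IrrCharacter (Subgroup.centralizer ({y} : Set G))),
            IsPBlock M b ∧ subIdem M _ b = c := fun c hc => by
        have := mem_blockIdems.1 hc
        rw [cenIn_zpowers] at this
        exact exists_isPBlock_subIdem this
      choose! b hb1 hb2 using hex
      have hinj : Set.InjOn b ↑(blocksAt M y) := fun c hc c' hc' h => by
        rw [← hb2 c hc, ← hb2 c' hc', h]
      have hb3 : ∀ c ∈ blocksAt M y, ∀ s : Subgroup.centralizer ({y} : Set G),
          val χ.1 ((cenElem y * s : Subgroup.centralizer ({y} : Set G)) : G) c =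
            subFun _ (b c) χ.1 (cenElem y * s) := fun c hc s => by
        conv_lhs => rw [← hb2 c hc]
        exact val_subIdem χ.1 _ (hb1 c hc) _
      rw [sum_secSet_eq rfl hy' (yC := cenElem y) rfl]
      rw [Finset.sum_congr rfl (g := fun c => Lam p e0 l y c *
        ∑ s : Subgroup.centralizer ({y} : Set G), (if p ∣ orderOf s then 0 else
          subFun _ (b c) χ.1 (cenElem y * s) * conj (subFun _ (b c) χ.1 (cenElem y * s))))
        (fun c hc => by
          rw [sum_secSet_eq rfl hy' (yC := cenElem y) rfl]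
          congr 1
          refine Finset.sum_congr rfl fun s _ => ?_
          rw [hb3 c hc s]),
        ← sum_combination_mul_conj hM (commute_cenElem y) (blocksAt M y) b hb1 hinj]
      refine Finset.sum_congr rfl fun s _ => ?_
      split_ifs with hs
      · rfl
      · have hu : ppart p ((cenElem y * s : Subgroup.centralizer ({y} : Set G)) : G) = y :=
          ppart_eq (isPPart_mul (x := y) (y := (s : G))
            (congrArg Subtype.val (commute_cenElem y s).eq) hy' (by rwa [Subgroup.orderOf_coe]))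
        have h1 := apply_eq_sum_val (M := M) (p := p) (st χ)
          ((cenElem y * s : Subgroup.centralizer ({y} : Set G)) : G)
        have h2 := apply_eq_sum_val (M := M) (p := p) χ.1
          ((cenElem y * s : Subgroup.centralizer ({y} : Set G)) : G)
        rw [hu] at h1 h2
        rw [h1, h2, Finset.sum_congr rfl fun c hc => hb3 c hc s,
          Finset.sum_congr rfl fun c hc => ?_]
        rw [hst3 χ _ c (by rw [hu]; exact hc), hu, hb3 c hc s]
    have hk : ∑ y ∈ Finset.univ.filter (fun y : G => ∃ k : ℕ, orderOf y = p ^ k),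
        ∑ c ∈ blocksAt M y, Lam p e0 l y c * pairWeight p B y c =
        (Nat.card B : ℂ) * if l = 1 then (Nat.card G : ℂ) else 0 := by
      simp only [pairWeight, Finset.mul_sum]
      rw [Finset.sum_congr rfl fun y _ => Finset.sum_comm, Finset.sum_comm,
        Finset.sum_congr rfl (g := fun _ => if l = 1 then (Nat.card G : ℂ) else 0) fun χ hχ => by
          rw [← hone' ⟨χ, mem_blockFinset.1 hχ⟩]
          exact Finset.sum_congr rfl fun y _ => Finset.sum_congr rfl fun c _ =>
            (Finset.mul_sum _ _ _).symm,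
        Finset.sum_const, nsmul_eq_mul]
      congr 2
      haveI : Fintype B := Fintype.ofFinite B
      rw [Nat.card_eq_fintype_card, ← Set.toFinset_card]
      congr 1
      ext χ
      simp
    have hG : (Nat.card G : ℂ) ≠ 0 := Nat.cast_ne_zero.2 Nat.card_pos.ne'
    have hkey := sum_pairs_eq hM hB hmax hab hfl
    rw [hk] at hkey
    refine mul_left_cancel₀ hG ?_
    refine hkey.symm.trans ?_
    split_ifs <;> ring
  -- orthogonality
  have hmain : ((Nat.card (pairStab (⊤ : Subgroup G) P e0) * Nat.card B : ℕ) : ℂ) =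
      ((N.index * ∑ v : P, (if z⁻¹ * v ∈ N then weight (M := M) p P e0 v else 0) : ℕ) : ℂ) := by
    push_cast
    calc (Nat.card (pairStab (⊤ : Subgroup G) P e0) : ℂ) * (Nat.card B : ℂ)
        = ∑ lam : trivChars N, ((lam : P →* ℂˣ) z⁻¹ : ℂ) *
            ∑ v : P, (weight (M := M) p P e0 v : ℂ) * ((lam : P →* ℂˣ) v : ℂ) := by
          simp only [htrace]
          rw [Finset.sum_eq_single (1 : trivChars N)]
          · simp
          · intro lam _ hne
            rw [if_neg (fun h : (lam : P →* ℂˣ) = 1 => hne (Subtype.ext h)), mul_zero]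
          · exact fun h => absurd (Finset.mem_univ _) h
      _ = ∑ v : P, (weight (M := M) p P e0 v : ℂ) *
            ∑ lam : trivChars N, ((lam : P →* ℂˣ) (z⁻¹ * v) : ℂ) := by
          simp only [Finset.mul_sum]
          rw [Finset.sum_comm]
          refine Finset.sum_congr rfl fun v _ => Finset.sum_congr rfl fun lam _ => ?_
          rw [map_mul, Units.val_mul]
          ring
      _ = _ := by
          rw [Finset.mul_sum]
          refine Finset.sum_congr rfl fun v _ => ?_
          rw [← finsum_eq_sum_of_fintype, hsep]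
          split_ifs <;> ring
  exact_mod_cast hmain

end CfsgLib.BlockStar
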