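import Cfsg.Agent.Lib.BrauerPairs.SectMajor
import Mathlib.Analysis.SpecialFunctions.Log.Basic

/-!
# The product of the diagonal pairings over a rational set of subsections

It is at least one; so if their sum is at most their number, all of them are one.
-/

set_option autoImplicit false
set_option linter.style.haveILetI false
set_option linter.unusedSectionVars false

namespace CfsgLib.BlockStar

open Cfsg CfsgLib.BrauerCharacters CfsgLib.BrauerPairs Finset CfsgLib.Blocks CfsgLib.BlockLocal
open scoped ComplexConjugate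

variable {G : Type*} [Group G] [Fintype G] {p : ℕ} [hp : Fact p.Prime] {M : Ideal AlgInt}
  [hMp : M.IsPrime]

open CfsgLib.Jordan in
/-- The product over a rational set of subsections of defect `D` is at least one. -/
theorem one_le_prod_subNorm (hM : IsPModular p M) (χ : IrrCharacter G) (S : Finset G)
    [∀ y : G, Fintype (Subgroup.centralizer ({y} : Set G))]
    (b : ∀ y : G, Set (IrrCharacter (Subgroup.centralizer ({y} : Set G)))) (D : ℕ)
    (hb : ∀ y ∈ S, IsPBlock M (b y) ∧ blockDefect p (b y) = D)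
    (hclosed : ∀ y ∈ S, ∀ t : ℕ, t.Coprime (Nat.card G) →
      y ^ t ∈ S ∧ subIdem M _ (b (y ^ t)) = subIdem M _ (b y))
    (hne : ∀ y ∈ S, subNorm (Subgroup.centralizer ({y} : Set G)) p (cenElem y) (b y) χ ≠ 0) :
    1 ≤ ∏ y ∈ S,
      (p : ℝ) ^ D * subNorm (Subgroup.centralizer ({y} : Set G)) p (cenElem y) (b y) χ := by
  classical
  set m := Nat.card G with hm
  haveI : NeZero m := ⟨Nat.card_pos.ne'⟩
  haveI := cycField_isCyclotomic m
  haveI : FiniteDimensional ℚ (cycField m) := IsCyclotomicExtension.finite {m} ℚ _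
  haveI : IsGalois ℚ (cycField m) := IsCyclotomicExtension.isGalois {m} ℚ _
  have hpow : ∀ (y : G) (ξ : IrrCharacter (Subgroup.centralizer ({y} : Set G))),
      centralVal (ξ : Subgroup.centralizer ({y} : Set G) → ℂ) (cenElem y) ^ m = 1 := fun y ξ =>
    by
      obtain ⟨c, hc⟩ : orderOf (cenElem y) ∣ m := by
        rw [← Subgroup.orderOf_coe]; exact orderOf_dvd_natCard _
      rw [hc, pow_mul, (centralVal_spec ξ (commute_cenElem y)).1, one_pow]
  have hpow' : ∀ (y : G) (ξ : IrrCharacter (Subgroup.centralizer ({y} : Set G))),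
      conj (centralVal (ξ : Subgroup.centralizer ({y} : Set G) → ℂ) (cenElem y)) ^ m = 1 :=
    fun y ξ => by rw [← map_pow, hpow, map_one]
  let X : G → cycField m := fun y => ∑ ξ ∈ blockFinset (b y), ∑ η ∈ blockFinset (b y),
    ((subMult _ χ ξ * subMult _ χ η * regEntry p (b y) ξ η : ℤ) : cycField m) *
      ((⟨_, mem_cycField_of_pow_eq_one (hpow y ξ)⟩ : cycField m) *
        (⟨_, mem_cycField_of_pow_eq_one (hpow' y η)⟩ : cycField m))
  have hσX : ∀ (σ : cycField m ≃ₐ[ℚ] cycField m) (t : ℕ),
      (∀ z : cycField m, (z : ℂ) ^ m = 1 → (σ z : ℂ) = (z : ℂ) ^ t) → ∀ y : G,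
      (σ (X y) : ℂ) = ∑ ξ ∈ blockFinset (b y), ∑ η ∈ blockFinset (b y),
        ((subMult _ χ ξ * subMult _ χ η * regEntry p (b y) ξ η : ℤ) : ℂ) *
          (centralVal (ξ : Subgroup.centralizer ({y} : Set G) → ℂ) (cenElem y ^ t) *
            conj (centralVal (η : Subgroup.centralizer ({y} : Set G) → ℂ) (cenElem y ^ t))) := by
    intro σ t ht y
    simp only [X, map_sum, map_mul, map_intCast, AddSubmonoidClass.coe_finsetSum,
      MulMemClass.coe_mul]
    refine sum_congr rfl fun ξ _ => sum_congr rfl fun η _ => ?_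
    rw [ht ⟨_, mem_cycField_of_pow_eq_one (hpow y ξ)⟩ (hpow y ξ),
      ht ⟨_, mem_cycField_of_pow_eq_one (hpow' y η)⟩ (hpow' y η), centralVal_pow_mul (commute_cenElem y),
      centralVal_pow_mul (commute_cenElem y), map_pow]
    simp
  have hXv : ∀ y ∈ S, (X y : ℂ) =
      (((p : ℝ) ^ D * subNorm (Subgroup.centralizer ({y} : Set G)) p (cenElem y) (b y) χ : ℝ) : ℂ) := by
    intro y hy
    have h1 := hσX AlgEquiv.refl 1 (fun z _ => by simp) y
    rw [pow_one] at h1
    rw [Complex.ofReal_mul, Complex.ofReal_pow, Complex.ofReal_natCast, coe_subNorm, ← (hb y hy).2,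
      pow_mul_subPair (commute_cenElem y)]
    exact h1
  have hperm : ∀ σ : cycField m ≃ₐ[ℚ] cycField m, σ (∏ y ∈ S, X y) = ∏ y ∈ S, X y := by
    intro σ
    obtain ⟨t, htc, ht⟩ := exists_galois_pow m σ
    rw [map_prod]
    have key : ∀ y ∈ S, σ (X y) = X (y ^ t) := by
      intro y hy
      obtain ⟨hyt, hidem⟩ := hclosed y hy t htc
      apply Subtype.ext
      rw [hσX σ t ht y, hXv _ hyt, Complex.ofReal_mul, Complex.ofReal_pow, Complex.ofReal_natCast,
        ← (hb y hy).2]
      have hCC : Subgroup.centralizer ({y} : Set G) = Subgroup.centralizer ({y ^ t} : Set G) := by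
        rw [← centralizer_zpowers_eq, ← centralizer_zpowers_eq]
        congr 2
        refine le_antisymm (Subgroup.zpowers_le.2 ?_)
          (Subgroup.zpowers_le.2 (Subgroup.npow_mem_zpowers y t))
        obtain ⟨u, hu⟩ := exists_pow_eq_self_of_coprime
          (Nat.Coprime.coprime_dvd_right (orderOf_dvd_natCard y) htc)
        have h := Subgroup.npow_mem_zpowers (y ^ t) u
        rwa [hu] at h
      have hnorm := subNorm_congr (p := p) (M := M) hCC
        (y := cenElem y ^ t) (y' := cenElem (y ^ t))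
        (by simp [cenElem]) (hb y hy).1 (hb _ hyt).1 hidem.symm χ
      rw [← hnorm, coe_subNorm, pow_mul_subPair fun c => (commute_cenElem y c).pow_left t]
    rw [prod_congr rfl key]
    refine prod_bij (fun y _ => y ^ t) (fun y hy => (hclosed y hy t htc).1)
      (fun y _ y' _ h => (Nat.Coprime.pow_left_bijective (n := t) (G := G) htc.symm).1 h)
      (fun z hz => ?_) fun y _ => rfl
    obtain ⟨y, hy, rfl⟩ : ∃ y ∈ S, y ^ t = z := by
      have hinj : Set.InjOn (fun y : G => y ^ t) ↑S := fun y _ y' _ h =>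
        (Nat.Coprime.pow_left_bijective (n := t) (G := G) htc.symm).1 h
      have himg : S.image (fun y => y ^ t) = S := Finset.eq_of_subset_of_card_le
        (fun z hz => by obtain ⟨y, hy, rfl⟩ := mem_image.1 hz; exact (hclosed y hy t htc).1)
        (le_of_eq (card_image_of_injOn hinj).symm)
      rw [← himg] at hz
      simpa using mem_image.1 hz
    exact ⟨y, hy, rfl⟩
  have hnorm := one_le_norm_of_fixed (P := ∏ y ∈ S, X y) hperm (by
      rw [SubmonoidClass.coe_finsetProd]
      refine IsIntegral.prod _ fun y _ => ?_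
      simp only [X, AddSubmonoidClass.coe_finsetSum, MulMemClass.coe_mul]
      refine IsIntegral.sum _ fun ξ _ => IsIntegral.sum _ fun η _ => IsIntegral.mul ?_
        ((Blocks.isIntegral_of_pow_eq_one (NeZero.ne m) (hpow y ξ)).mul
          (Blocks.isIntegral_of_pow_eq_one (NeZero.ne m) (hpow' y η)))
      rw [show ((((subMult _ χ ξ * subMult _ χ η * regEntry p (b y) ξ η : ℤ) : cycField m)) : ℂ) =
        algebraMap ℤ ℂ _ from map_intCast (cycField m).val _]
      exact isIntegral_algebraMap)
    (prod_ne_zero_iff.2 fun y hy h => by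
      have := hXv y hy
      rw [h, ZeroMemClass.coe_zero, eq_comm, Complex.ofReal_eq_zero, mul_eq_zero] at this
      exact hne y hy (this.resolve_left (pow_ne_zero _ (Nat.cast_ne_zero.2 hp.out.ne_zero))))
  rw [SubmonoidClass.coe_finsetProd, prod_congr rfl hXv, ← Complex.ofReal_prod, Complex.norm_real,
    Real.norm_of_nonneg (prod_nonneg fun y _ =>
      mul_nonneg (pow_nonneg (Nat.cast_nonneg p) _) (subNorm_nonneg _ _ _ _))] at hnorm
  exact hnorm

/-- Nonnegative numbers with product at least one and sum at most their number are all one. -/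
theorem eq_one_of_prod_ge {ι : Type*} (s : Finset ι) (x : ι → ℝ) (h0 : ∀ i ∈ s, 0 ≤ x i)
    (hp : 1 ≤ ∏ i ∈ s, x i) (hs : ∑ i ∈ s, x i ≤ s.card) {i : ι} (hi : i ∈ s) : x i = 1 := by
  have hne : ∀ j ∈ s, x j ≠ 0 := fun j hj h => by
    rw [Finset.prod_eq_zero hj h] at hp; exact absurd hp (not_le.2 zero_lt_one)
  have hpos : ∀ j ∈ s, 0 < x j := fun j hj => (h0 j hj).lt_of_ne (hne j hj).symm
  have h1 : 0 ≤ ∑ j ∈ s, Real.log (x j) := by
    rw [← Real.log_prod hne]; exact Real.log_nonneg hp
  by_contra h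
  have h2 : ∑ j ∈ s, Real.log (x j) < ∑ j ∈ s, (x j - 1) :=
    Finset.sum_lt_sum (fun j hj => Real.log_le_sub_one_of_pos (hpos j hj))
      ⟨i, hi, Real.log_lt_sub_one_of_pos (hpos i hi) h⟩
  rw [Finset.sum_sub_distrib, Finset.sum_const, nsmul_eq_mul, mul_one] at h2
  linarith

end CfsgLib.BlockStar
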