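import Cfsg.Agent.Lib.BlockStar.NilpotentPairs
import Cfsg.Agent.Lib.BlockStar.SubNormProd
import Cfsg.Agent.Lib.BrauerPairs.BridgeDefect

/-!
# The characters of a nilpotent block

For a nilpotent block with maximal pair `(P, e0)` and a character `χ` of height zero, the products
of `χ` with the irreducible characters of `P` are the characters of the block.
-/

set_option autoImplicit false
set_option linter.style.haveILetI false
set_option linter.unusedSectionVars false

noncomputable section

namespace CfsgLib.BlockStar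

open Cfsg CfsgLib.Blocks MonoidAlgebra CfsgLib.BrauerPairs
open CfsgLib.BrauerCharacters (cenElem commute_cenElem blockFinset mem_blockFinset regInner regEntry)
open CfsgLib.BlockSections (belowBlock)
open scoped ComplexConjugate

variable {G : Type*} [Group G] [Fintype G] {M : Ideal AlgInt} [M.IsPrime] {p : ℕ} [Fact p.Prime]
  {B : Set (IrrCharacter G)} {P : Subgroup G} {e0 : MonoidAlgebra (Res M) G}

/-- A function on `P` as a function on the group. -/
def extP (P : Subgroup G) (f : P → ℂ) (x : G) : ℂ := by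
  classical exact if h : x ∈ P then f ⟨x, h⟩ else 0

theorem extP_coe (f : P → ℂ) (v : P) : extP P f (v : G) = f v := by
  classical
  rw [extP, dif_pos v.2]

theorem extP_conj {f : P → ℂ} (hf : IsClassFunction P f) :
    ∀ w ∈ P, ∀ v ∈ P, extP P f (w * v * w⁻¹) = extP P f v := by
  intro w hw v hv
  have h := extP_coe f (⟨w, hw⟩ * ⟨v, hv⟩ * (⟨w, hw⟩ : P)⁻¹)
  simp only [Subgroup.coe_mul, Subgroup.coe_inv] at h
  rw [h, show extP P f v = f ⟨v, hv⟩ from extP_coe f ⟨v, hv⟩]
  exact hf ⟨v, hv⟩ ⟨w, hw⟩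

variable [CharP (Res M) p] [IsAlgClosed (Res M)]
  (hM : IsPModular p M) (hB : IsPBlock M B)
  (hmax : IsMaxPair p (⊤ : Subgroup G) (redElem M (blockCoeff B)) P e0)
  (hnil : IsNilp p (⊤ : Subgroup G) (redElem M (blockCoeff B)))
include hM hB hmax hnil

/-- The product with the constant one is the character. -/
theorem starF_one {χ : IrrCharacter G} (hχ : χ ∈ B) :
    starF p χ P e0 (fun _ => (1 : ℂ)) = (χ : G → ℂ) := by
  classical
  have hb := isBlockIdem_redElem_blockCoeff (M := M) hB
  funext g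
  rw [starF, apply_eq_sum_val (M := M) (p := p) χ g]
  refine Finset.sum_congr rfl fun c hc => ?_
  by_cases hp : PairOf p (⊤ : Subgroup G) (redElem M (blockCoeff B))
      (Subgroup.zpowers (ppart p g)) c
  · obtain ⟨x, hx⟩ := (exists_conj_iff hb hmax).2 hp
    rw [LamF_eq (stableFun_of_nilp hM hB hmax hnil (F := fun _ => (1 : ℂ))
      (fun _ _ _ _ => rfl)) hx, one_mul]
  · rw [val_eq_zero_of_not_pairOf hM hB hχ (mem_blockIdems.1 hc) hp, mul_zero]

/-- The defect group of the block at an element. -/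
theorem pow_blockDefect_belowBlock {v : G} (hv : v ∈ P) :
    p ^ blockDefect p (belowBlock (M := M) p P e0 v) =
      Nat.card ↥(P ⊓ Subgroup.centralizer ({v} : Set G)) := by
  obtain ⟨hbl, hle, -⟩ := BlockSections.belowBlock_spec hM hB hmax hv
  have hd := hnil.isDefectIn_cenIn (isBlockIdem_redElem_blockCoeff hB) hmax hle
  rw [cenIn_zpowers, BrauerCharacters.centralizer_zpowers_eq] at hd
  set C := Subgroup.centralizer ({v} : Set G)
  have hdef : IsDefectGroup p M (belowBlock (M := M) p P e0 v) ((P ⊓ C).subgroupOf C) := by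
    rw [isDefectGroup_sub_iff hM hbl, Subgroup.map_subgroupOf_eq_of_le inf_le_right]
    exact hd
  rw [← Blocks.card_isDefectGroup hM hbl hdef]
  exact Nat.card_congr (Subgroup.subgroupOfEquivOfLe inf_le_right).toEquiv

/-- The inner product with an irreducible character, over the defect group. -/
theorem card_mul_classInner_starF_eq [∀ y : G, Fintype (Subgroup.centralizer ({y} : Set G))]
    [Fintype P] {F : G → ℂ} (hF : ∀ w ∈ P, ∀ v ∈ P, F (w * v * w⁻¹) = F v)
    (χ φ : IrrCharacter G) :
    (Nat.card P : ℂ) * classInner (starF p χ P e0 F) (φ : G → ℂ) =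
      ∑ v : P, F v * ((Nat.card ↥(P ⊓ Subgroup.centralizer ({(v : G)} : Set G)) : ℂ) *
        subPair (Subgroup.centralizer ({(v : G)} : Set G)) p (cenElem (v : G))
          (belowBlock (M := M) p P e0 (v : G)) (belowBlock (M := M) p P e0 (v : G)) χ φ) := by
  classical
  have hG : (Nat.card G : ℂ) ≠ 0 := Nat.cast_ne_zero.2 Nat.card_pos.ne'
  refine mul_left_cancel₀ hG ?_
  rw [mul_left_comm, card_mul_classInner_starF hM, card_mul_pairSum hM hB hmax hnil hF]
  congr 1
  refine Finset.sum_congr (by ext; simp) fun v _ => ?_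
  rw [secPairing_eq_subPair hM hB hmax v.2]
  field_simp [Nat.cast_ne_zero.2 (Nat.card_pos (α := Subgroup.centralizer ({(v : G)} : Set G))).ne']

/-- At a character of height zero every scaled diagonal pairing is one. -/
theorem scaled_subPair_eq_one [∀ y : G, Fintype (Subgroup.centralizer ({y} : Set G))] [Fintype P]
    {χ : IrrCharacter G} (hχ : χ ∈ B) (h0 : blockHeight p B (χ : G → ℂ) = 0) (v : P) :
    (Nat.card ↥(P ⊓ Subgroup.centralizer ({(v : G)} : Set G)) : ℂ) *
      subPair (Subgroup.centralizer ({(v : G)} : Set G)) p (cenElem (v : G))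
        (belowBlock (M := M) p P e0 (v : G)) (belowBlock (M := M) p P e0 (v : G)) χ χ = 1 := by
  classical
  set b : ∀ y : G, Set (IrrCharacter (Subgroup.centralizer ({y} : Set G))) :=
    fun y => belowBlock (M := M) p P e0 y with hb
  set N : G → ℕ := fun y => Nat.card ↥(P ⊓ Subgroup.centralizer ({y} : Set G)) with hN
  set q : G → ℝ := fun y =>
    (N y : ℝ) * subNorm (Subgroup.centralizer ({y} : Set G)) p (cenElem y) (b y) χ with hq
  set S : Finset G := Finset.univ.filter (fun y => y ∈ P) with hS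
  have htot : ∑ y ∈ S, q y = (S.card : ℝ) := by
    have h := card_mul_classInner_starF_eq hM hB hmax hnil (F := fun _ => (1 : ℂ))
      (fun _ _ _ _ => rfl) χ χ
    rw [starF_one hM hB hmax hnil hχ, CharTheory.classInner_irrCharacter, if_pos rfl, mul_one] at h
    simp only [one_mul, ← coe_subNorm] at h
    have hcard : (S.card : ℂ) = (Nat.card P : ℂ) := by
      rw [Nat.card_eq_fintype_card, Fintype.card_subtype]
    have hsum : ∑ v : P, (q (v : G) : ℂ) = ∑ y ∈ S, (q y : ℂ) :=
      (Finset.sum_subtype S (by simp [hS]) (fun y => (q y : ℂ))).symm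
    apply Complex.ofReal_injective
    push_cast
    rw [← hsum, hcard, h]
    refine Finset.sum_congr rfl fun w _ => ?_
    simp only [hq, hb, hN]
    push_cast
    rfl
  have hcoprime : ∀ y ∈ P, ∀ t : ℕ, t.Coprime (Nat.card G) → y ^ t ∈ P ∧
      Subgroup.zpowers (y ^ t) = Subgroup.zpowers y ∧
        Subgroup.centralizer ({y ^ t} : Set G) = Subgroup.centralizer ({y} : Set G) ∧
        subIdem M _ (b (y ^ t)) = subIdem M _ (b y) := by
    intro y hy t ht
    have hyt : y ^ t ∈ P := P.pow_mem hy t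
    have hz : Subgroup.zpowers (y ^ t) = Subgroup.zpowers y := by
      refine le_antisymm (Subgroup.zpowers_le.2 (Subgroup.npow_mem_zpowers y t))
        (Subgroup.zpowers_le.2 ?_)
      obtain ⟨u, hu⟩ := exists_pow_eq_self_of_coprime
        (Nat.Coprime.coprime_dvd_right (orderOf_dvd_natCard y) ht)
      have h := Subgroup.npow_mem_zpowers (y ^ t) u
      rwa [hu] at h
    refine ⟨hyt, hz, ?_, ?_⟩
    · rw [← BrauerCharacters.centralizer_zpowers_eq, hz, BrauerCharacters.centralizer_zpowers_eq]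
    · have h1 := (BlockSections.belowBlock_spec hM hB hmax hyt).2.1
      rw [hz] at h1
      exact (existsUnique_pairLE hmax.1.1 (Subgroup.zpowers_le.2 hy)).unique h1
        (BlockSections.belowBlock_spec hM hB hmax hy).2.1
  have hne : ∀ y ∈ P,
      subNorm (Subgroup.centralizer ({y} : Set G)) p (cenElem y) (b y) χ ≠ 0 := by
    intro y hy h
    obtain ⟨c, g, hc, hg, hv⟩ := exists_val_ne_zero_of_height_zero hM hB hmax hχ h0 hy
    obtain ⟨hbl, hle, -⟩ := BlockSections.belowBlock_spec hM hB hmax hy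
    rw [(existsUnique_pairLE hmax.1.1 hc.le).unique hc hle] at hv
    obtain ⟨s, hs, hcs, -, hreg⟩ := ppart_spec (p := p) g
    rw [hg] at hs hcs
    have hsC : s ∈ Subgroup.centralizer ({y} : Set G) :=
      Subgroup.mem_centralizer_singleton_iff.2 hcs.symm.eq
    have hgs : ((cenElem y * ⟨s, hsC⟩ : Subgroup.centralizer ({y} : Set G)) : G) = g := hs
    rw [← hgs, val_subIdem χ _ hbl] at hv
    rw [subNorm, mul_eq_zero] at h
    have h1 := (Finset.sum_eq_zero_iff_of_nonneg (fun t _ => by split_ifs <;> positivity)).1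
      (h.resolve_left (inv_ne_zero (Nat.cast_ne_zero.2 Nat.card_pos.ne'))) ⟨s, hsC⟩
      (Finset.mem_univ _)
    rw [if_neg (by rwa [Subgroup.orderOf_mk]), sq_eq_zero_iff, norm_eq_zero] at h1
    exact hv h1
  have hdef : ∀ y ∈ P, p ^ blockDefect p (b y) = N y := fun y hy =>
    pow_blockDefect_belowBlock hM hB hmax hnil hy
  -- the classes of elements with a given defect
  have hclass : ∀ D : ℕ, ∀ T : Finset G, T = S.filter (fun y => blockDefect p (b y) = D) →
      1 ≤ ∏ y ∈ T, q y := by
    intro D T hT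
    have hmemT : ∀ y, y ∈ T ↔ y ∈ P ∧ blockDefect p (b y) = D := by simp [hT, hS]
    have h := one_le_prod_subNorm hM χ T b D
      (fun y hy => ⟨(BlockSections.belowBlock_spec hM hB hmax ((hmemT y).1 hy).1).1,
        ((hmemT y).1 hy).2⟩)
      (fun y hy t ht => by
        obtain ⟨hyP, hyD⟩ := (hmemT y).1 hy
        obtain ⟨h1, -, hC, h2⟩ := hcoprime y hyP t ht
        refine ⟨(hmemT _).2 ⟨h1, Nat.pow_right_injective (Fact.out : p.Prime).two_le ?_⟩, h2⟩
        show p ^ blockDefect p (b (y ^ t)) = p ^ D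
        rw [hdef _ h1, ← hyD, hdef y hyP]
        simp only [hN, hC])
      (fun y hy => hne y ((hmemT y).1 hy).1)
    refine h.trans (le_of_eq (Finset.prod_congr rfl fun y hy => ?_))
    obtain ⟨hyP, hyD⟩ := (hmemT y).1 hy
    simp only [hq]
    rw [← hdef y hyP, hyD, Nat.cast_pow]
  have hprod : 1 ≤ ∏ y ∈ S, q y := by
    rw [← Finset.prod_fiberwise_of_maps_to (g := fun y => blockDefect p (b y))
      (t := S.image fun y => blockDefect p (b y)) fun y hy => Finset.mem_image_of_mem _ hy]
    exact Finset.one_le_prod fun D _ => hclass D _ rfl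
  have h1 := eq_one_of_prod_ge S q (fun y _ => mul_nonneg (Nat.cast_nonneg _)
    (subNorm_nonneg _ _ _ _)) hprod htot.le (i := (v : G)) (by simp [hS])
  simp only [hq, hb, hN] at h1
  rw [← coe_subNorm]
  exact_mod_cast h1

/-- The products with the irreducible characters of `P` are orthonormal. -/
theorem classInner_starF_extP [∀ y : G, Fintype (Subgroup.centralizer ({y} : Set G))] [Fintype P]
    {χ : IrrCharacter G} (hχ : χ ∈ B) (h0 : blockHeight p B (χ : G → ℂ) = 0)
    (ζ η : IrrCharacter P) [Decidable (ζ = η)] :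
    classInner (starF p χ P e0 (extP P (ζ : P → ℂ))) (starF p χ P e0 (extP P (η : P → ℂ))) =
      if ζ = η then 1 else 0 := by
  classical
  have hF : ∀ w ∈ P, ∀ v ∈ P, extP P (ζ : P → ℂ) (w * v * w⁻¹) * conj (extP P (η : P → ℂ)
      (w * v * w⁻¹)) = extP P (ζ : P → ℂ) v * conj (extP P (η : P → ℂ) v) := fun w hw v hv => by
    rw [extP_conj (CharTheory.IsIrrCharacter.isClassFunction ζ.2) w hw v hv,
      extP_conj (CharTheory.IsIrrCharacter.isClassFunction η.2) w hw v hv]
  have hG : (Nat.card G : ℂ) ≠ 0 := Nat.cast_ne_zero.2 Nat.card_pos.ne'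
  have hP : (Nat.card P : ℂ) ≠ 0 := Nat.cast_ne_zero.2 Nat.card_pos.ne'
  refine mul_left_cancel₀ hP (mul_left_cancel₀ hG ?_)
  rw [mul_left_comm, card_mul_classInner_starF_starF hM,
    card_mul_pairSum hM hB hmax hnil hF]
  congr 1
  have hcl : classInner (ζ : P → ℂ) (η : P → ℂ) = if ζ = η then 1 else 0 := by
    convert CharTheory.classInner_irrCharacter ζ η
  rw [← hcl, classInner, ← mul_assoc, mul_inv_cancel₀ hP, one_mul]
  refine Finset.sum_congr (by ext; simp) fun v _ => ?_
  rw [secPairing_eq_subPair hM hB hmax v.2, extP_coe, extP_coe]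
  have h := scaled_subPair_eq_one hM hB hmax hnil hχ h0 v
  have hc : (Nat.card (Subgroup.centralizer ({(v : G)} : Set G)) : ℂ) ≠ 0 :=
    Nat.cast_ne_zero.2 Nat.card_pos.ne'
  field_simp
  linear_combination (ζ : P → ℂ) v * conj ((η : P → ℂ) v) * h

/-- The structure of the characters of a nilpotent block. -/
theorem exists_equiv_of_nilp {χ : IrrCharacter G} (hχ : χ ∈ B)
    (h0 : blockHeight p B (χ : G → ℂ) = 0) :
    ∃ Φ : B ≃ IrrCharacter P, ∀ ψ : B, ∀ g : G, ¬ p ∣ orderOf g →
      ((ψ : IrrCharacter G) : G → ℂ) g =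
        ((Φ ψ : IrrCharacter P) : P → ℂ) 1 * (χ : G → ℂ) g := by
  classical
  haveI : ∀ y : G, Fintype (Subgroup.centralizer ({y} : Set G)) := fun y => Fintype.ofFinite _
  haveI := Fintype.ofFinite P
  haveI := Fintype.ofFinite (IrrCharacter P)
  set f : IrrCharacter P → G → ℂ := fun ζ => starF p χ P e0 (extP P (ζ : P → ℂ)) with hf
  have horth : ∀ ζ η, classInner (f ζ) (f η) = if ζ = η then 1 else 0 := fun ζ η =>
    classInner_starF_extP hM hB hmax hnil hχ h0 ζ η
  have hstab : ∀ ζ : IrrCharacter P, StableFun p P e0 (extP P (ζ : P → ℂ)) := fun ζ =>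
    stableFun_of_nilp hM hB hmax hnil (extP_conj (CharTheory.IsIrrCharacter.isClassFunction ζ.2))
  have hreg : ∀ ζ : IrrCharacter P, ∀ g : G, ¬ p ∣ orderOf g →
      f ζ g = (ζ : P → ℂ) 1 * (χ : G → ℂ) g := fun ζ g hg => by
    simp only [hf]
    rw [starF_regular hM hB hmax hχ (hstab ζ) hg,
      show extP P (ζ : P → ℂ) 1 = (ζ : P → ℂ) 1 from extP_coe (ζ : P → ℂ) 1]
  have hirr : ∀ ζ : IrrCharacter P, IsIrrCharacter G (f ζ) := by
    intro ζ
    have hgen : IsGeneralizedCharacter G (f ζ) :=
      isGeneralizedCharacter_starF hM hB hmax χ (hstab ζ) (by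
        simp only [extP_coe]
        exact CharTheory.IsIrrCharacter.isGeneralizedCharacter ζ.2)
    refine (CharTheory.exists_sign_irr_of_norm_one hgen
      ((horth ζ ζ).trans (if_pos rfl))).resolve_right fun h => ?_
    obtain ⟨h1, h2, -⟩ := BrauerCharacters.charDegree_spec (⟨-f ζ, h⟩ : IrrCharacter G)
    obtain ⟨h3, h4, -⟩ := BrauerCharacters.charDegree_spec χ
    obtain ⟨h5, h6, -⟩ := BrauerCharacters.charDegree_spec ζ
    simp only [Pi.neg_apply] at h1
    rw [hreg ζ 1 (by rw [orderOf_one]; exact (Fact.out : p.Prime).not_dvd_one), h3, h5] at h1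
    have h7 : ((charDegree (ζ : P → ℂ) * charDegree (χ : G → ℂ) + charDegree (-f ζ) : ℕ) : ℂ) =
        0 := by
      push_cast; rw [← h1]; ring
    have := Nat.cast_eq_zero.1 h7
    have := Nat.mul_pos h6 h4
    omega
  set Ψ : IrrCharacter P → IrrCharacter G := fun ζ => ⟨f ζ, hirr ζ⟩ with hΨ
  have hformula : ∀ (ζ : IrrCharacter P) (φ : IrrCharacter G),
      (Nat.card P : ℂ) * classInner (f ζ) (φ : G → ℂ) =
        ∑ v : P, (ζ : P → ℂ) v * ((Nat.card ↥(P ⊓ Subgroup.centralizer ({(v : G)} : Set G)) : ℂ) *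
          subPair (Subgroup.centralizer ({(v : G)} : Set G)) p (cenElem (v : G))
            (belowBlock (M := M) p P e0 (v : G)) (belowBlock (M := M) p P e0 (v : G)) χ φ) := by
    intro ζ φ
    simp only [hf]
    rw [card_mul_classInner_starF_eq hM hB hmax hnil
      (extP_conj (CharTheory.IsIrrCharacter.isClassFunction ζ.2))]
    simp only [extP_coe]
  have hmem : ∀ ζ, Ψ ζ ∈ B := by
    intro ζ
    by_contra hout
    have h1 := hformula ζ (Ψ ζ)
    rw [show classInner (f ζ) ((Ψ ζ : IrrCharacter G) : G → ℂ) = 1 from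
      (horth ζ ζ).trans (if_pos rfl), mul_one, Finset.sum_eq_zero fun v _ => ?_] at h1
    · exact Nat.cast_ne_zero.2 Nat.card_pos.ne' h1
    obtain ⟨hbl, -, hind⟩ := BlockSections.belowBlock_spec hM hB hmax v.2
    have hv0 : ∀ s : Subgroup.centralizer ({(v : G)} : Set G), ¬ p ∣ orderOf s →
        subFun _ (belowBlock (M := M) p P e0 (v : G)) (Ψ ζ) (cenElem (v : G) * s) = 0 :=
      fun s hs => BrauerCharacters.secPart_eq_zero_of_isInducedBlock (v : G)
        (BlockSections.isPElem_of_mem hM hB hmax v.2) hM hind hout hs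
    rw [subPair, Finset.sum_eq_zero fun s _ => ?_, mul_zero, mul_zero, mul_zero]
    split_ifs with hs
    · rfl
    · rw [hv0 s hs, map_zero, mul_zero]
  have hinj : Function.Injective Ψ := fun ζ η h => by
    have h1 := horth ζ η
    rw [show f ζ = f η from congrArg Subtype.val h, (horth η η).trans (if_pos rfl)] at h1
    by_contra hne
    rw [if_neg hne] at h1
    exact one_ne_zero h1
  have hsurj : ∀ φ ∈ B, ∃ ζ, Ψ ζ = φ := by
    intro φ hφ
    by_contra hcon
    push Not at hcon
    have h1 : ∀ ζ : IrrCharacter P, classInner (f ζ) (φ : G → ℂ) = 0 := fun ζ => by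
      show classInner ((Ψ ζ : IrrCharacter G) : G → ℂ) (φ : G → ℂ) = 0
      rw [CharTheory.classInner_irrCharacter, if_neg (hcon ζ)]
    have h2 : ∀ ζ : IrrCharacter P, ∑ v : P, (ζ : P → ℂ) v *
        ((Nat.card ↥(P ⊓ Subgroup.centralizer ({(v : G)} : Set G)) : ℂ) *
          subPair (Subgroup.centralizer ({(v : G)} : Set G)) p (cenElem (v : G))
            (belowBlock (M := M) p P e0 (v : G)) (belowBlock (M := M) p P e0 (v : G)) χ φ) = 0 :=
      fun ζ => by rw [← hformula, h1, mul_zero]
    have h3 : ∑ ζ : IrrCharacter P, (ζ : P → ℂ) 1 * ∑ v : P, (ζ : P → ℂ) v *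
        ((Nat.card ↥(P ⊓ Subgroup.centralizer ({(v : G)} : Set G)) : ℂ) *
          subPair (Subgroup.centralizer ({(v : G)} : Set G)) p (cenElem (v : G))
            (belowBlock (M := M) p P e0 (v : G)) (belowBlock (M := M) p P e0 (v : G)) χ φ) = 0 :=
      Finset.sum_eq_zero fun ζ _ => by rw [h2, mul_zero]
    simp only [Finset.mul_sum] at h3
    rw [Finset.sum_comm, Finset.sum_congr rfl (g := fun v : P =>
      (if v = 1 then (Nat.card P : ℂ) else 0) *
        ((Nat.card ↥(P ⊓ Subgroup.centralizer ({(v : G)} : Set G)) : ℂ) *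
          subPair (Subgroup.centralizer ({(v : G)} : Set G)) p (cenElem (v : G))
            (belowBlock (M := M) p P e0 (v : G)) (belowBlock (M := M) p P e0 (v : G)) χ φ))
      (fun v _ => by
        rw [← CharTheory.sum_degree_mul v, Finset.sum_mul]
        exact Finset.sum_congr rfl fun ζ _ => (mul_assoc _ _ _).symm)] at h3
    simp only [ite_mul, zero_mul] at h3
    rw [Finset.sum_ite_eq' Finset.univ (1 : P), if_pos (Finset.mem_univ _), mul_eq_zero] at h3
    have h4 := (mul_eq_zero.1 (h3.resolve_left (Nat.cast_ne_zero.2 Nat.card_pos.ne'))).resolve_left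
      (Nat.cast_ne_zero.2 Nat.card_pos.ne')
    -- at the identity the pairing is the regular inner product
    have h5 := secPairing_eq_subPair hM hB hmax P.one_mem χ φ
    rw [show subPair (Subgroup.centralizer ({(1 : G)} : Set G)) p (cenElem (1 : G))
      (belowBlock (M := M) p P e0 1) (belowBlock (M := M) p P e0 1) χ φ = 0 from h4, mul_zero] at h5
    obtain ⟨b1, -, hid, -, huniq⟩ := BlockSections.exists_block_one (p := p) hM hB
    rw [huniq _ (BlockSections.belowBlock_spec hM hB hmax P.one_mem).2.2, hid, secPairing] at h5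
    have h6 : regInner p (χ : G → ℂ) (φ : G → ℂ) = 0 := by
      rw [regInner, classInner]
      refine mul_eq_zero_of_right _ ?_
      rw [← h5, ← Finset.sum_subset (Finset.subset_univ (secSet p (1 : G))) fun g _ hg => ?_]
      · refine Finset.sum_congr rfl fun g hg => ?_
        have hu : ¬ p ∣ orderOf g := by
          obtain ⟨y, hy, -, -, hy'⟩ := mem_secSet.1 hg
          rw [one_mul] at hy
          rwa [← hy]
        rw [BrauerCharacters.pRegularPart_apply, if_neg hu]
        have hv : ∀ ψ ∈ B, val ψ g (redElem M (blockCoeff B)) = (ψ : G → ℂ) g := fun ψ hψ => by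
          rw [← val_one (M := M) ψ g,
            ← val_mul_redElem ψ hB hψ (one_mul _) (Commute.one_right _), one_mul]
        rw [hv χ hχ, hv φ hφ]
      · rw [BrauerCharacters.pRegularPart_apply, if_pos ?_, zero_mul]
        by_contra hu
        exact hg (mem_secSet.2 ⟨g, one_mul g, Commute.one_left g, ⟨0, by simp⟩, hu⟩)
    have h7 := BrauerCharacters.regEntry_ne_zero (p := p) (BrauerCharacters.weakOrth hM hB) hM hB
      hφ hχ h0
    apply h7
    rw [BrauerCharacters.regEntry_comm]
    have h8 := BrauerCharacters.coe_regEntry (p := p) hχ φ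
    rw [h6, mul_zero] at h8
    exact_mod_cast h8
  let Φ : IrrCharacter P ≃ B := Equiv.ofBijective (fun ζ => ⟨Ψ ζ, hmem ζ⟩)
    ⟨fun ζ η h => hinj (congrArg Subtype.val h),
      fun φ => (hsurj φ.1 φ.2).imp fun ζ h => Subtype.ext h⟩
  refine ⟨Φ.symm, fun ψ g hg => ?_⟩
  conv_lhs => rw [← Φ.apply_symm_apply ψ]
  exact hreg _ g hg

/-- A nilpotent block has rank one and its heights are those of the degrees of `P`. -/
theorem structure_of_nilp :
    blockRank p B = 1 ∧
      (∃ χ₀ ∈ B, ∀ χ ∈ B, ∃ d : ℕ, ∀ x : G,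
        pRegularPart p (χ : G → ℂ) x = (d : ℂ) * pRegularPart p (χ₀ : G → ℂ) x) ∧
      ∃ Φ : B ≃ IrrCharacter P, ∀ χ : B, blockHeight p B ((χ : IrrCharacter G) : G → ℂ) =
        (charDegree ((Φ χ : IrrCharacter P) : P → ℂ)).factorization p := by
  classical
  obtain ⟨χ, hχ, h0⟩ :=
    BrauerCharacters.exists_height_eq_zero (p := p) (B := B) (Blocks.isPBlock_nonempty hB)
  obtain ⟨Φ, hΦ⟩ := exists_equiv_of_nilp hM hB hmax hnil hχ h0
  have hreg : ∀ ψ : B, pRegularPart p ((ψ : IrrCharacter G) : G → ℂ) =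
      (charDegree ((Φ ψ : IrrCharacter P) : P → ℂ) : ℂ) • pRegularPart p (χ : G → ℂ) := by
    intro ψ
    funext x
    rw [Pi.smul_apply, smul_eq_mul, BrauerCharacters.pRegularPart_apply,
      BrauerCharacters.pRegularPart_apply]
    split_ifs with h
    · rw [mul_zero]
    · rw [hΦ ψ x h, (BrauerCharacters.charDegree_spec (Φ ψ)).1]
  have h1 : (1 : G) ∈ ({1} : Set G) := rfl
  have hne : pRegularPart p (χ : G → ℂ) ≠ 0 := fun h => by
    have h2 := congrFun h 1
    rw [BrauerCharacters.pRegularPart_apply, orderOf_one,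
      if_neg (Fact.out : p.Prime).not_dvd_one] at h2
    exact CharTheory.apply_one_ne_zero_of_isIrr χ.2 h2
  refine ⟨?_, ⟨χ, hχ, fun ψ hψ => ⟨_, fun x => congrFun (hreg ⟨ψ, hψ⟩) x⟩⟩, Φ, fun ψ => ?_⟩
  · unfold blockRank
    rw [show Submodule.span ℂ ((fun χ : IrrCharacter G => pRegularPart p (χ : G → ℂ)) '' B) =
      Submodule.span ℂ {pRegularPart p (χ : G → ℂ)} from le_antisymm
        (Submodule.span_le.2 fun f ⟨ψ, hψ, hf⟩ => hf ▸ Submodule.mem_span_singleton.2
          ⟨_, (hreg ⟨ψ, hψ⟩).symm⟩)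
        (Submodule.span_mono (Set.singleton_subset_iff.2 ⟨χ, hχ, rfl⟩))]
    exact finrank_span_singleton hne
  · obtain ⟨e1, d1, -⟩ := BrauerCharacters.charDegree_spec (ψ : IrrCharacter G)
    obtain ⟨e2, d2, -⟩ := BrauerCharacters.charDegree_spec χ
    obtain ⟨e3, d3, -⟩ := BrauerCharacters.charDegree_spec (Φ ψ)
    have h := hΦ ψ 1 (by rw [orderOf_one]; exact (Fact.out : p.Prime).not_dvd_one)
    rw [e1, e2, e3, ← Nat.cast_mul] at h
    have h' := Nat.cast_injective h
    have hle := BrauerCharacters.sInf_le_degree (p := p) hχ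
    unfold blockHeight at h0 ⊢
    rw [h', Nat.factorization_mul d3.ne' d2.ne', Finsupp.add_apply]
    omega

end CfsgLib.BlockStar
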