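import Cfsg.Agent.Lib.BlockStar.GenStar
import Cfsg.Agent.Lib.BlockStar.Nonvanishing
import Cfsg.Agent.Lib.BlockSections.AbelianCount
import Cfsg.Agent.Lib.BrauerPairs.TransportPairs

/-!
# The pairs of a nilpotent block

Up to conjugation they are the elements of the defect group up to its own conjugation, so a sum
over the pairs is a sum over the defect group.
-/

set_option autoImplicit false
set_option linter.style.haveILetI false
set_option linter.unusedSectionVars false

noncomputable section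

namespace CfsgLib.BlockStar

open Cfsg CfsgLib.Blocks MonoidAlgebra CfsgLib.BrauerPairs
open CfsgLib.BrauerCharacters (cenElem commute_cenElem)
open CfsgLib.BlockSections (belowBlock)
open scoped ComplexConjugate

variable {G : Type*} [Group G] [Fintype G] {M : Ideal AlgInt} [M.IsPrime] {p : ℕ} [Fact p.Prime]
  {B : Set (IrrCharacter G)} {P : Subgroup G} {e0 : MonoidAlgebra (Res M) G}
  [CharP (Res M) p] [IsAlgClosed (Res M)]
  (hM : IsPModular p M) (hB : IsPBlock M B)
  (hmax : IsMaxPair p (⊤ : Subgroup G) (redElem M (blockCoeff B)) P e0)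
  (hnil : IsNilp p (⊤ : Subgroup G) (redElem M (blockCoeff B)))
include hM hB hmax hnil

/-- Pairs below the maximal pair are conjugate only by elements of `P`. -/
theorem exists_mem_conj_eq {u v g : G} {c : MonoidAlgebra (Res M) G}
    (hu : PairLE p (⊤ : Subgroup G) (Subgroup.zpowers u) c P e0) (hg : g * u * g⁻¹ = v)
    (hv : PairLE p (⊤ : Subgroup G) (Subgroup.zpowers v) (conjA g c) P e0) :
    ∃ w ∈ P, w * u * w⁻¹ = v := by
  have hb := isBlockIdem_redElem_blockCoeff (M := M) hB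
  obtain ⟨w, hw, z, hz, rfl⟩ := hnil.exists_eq_mul hb hmax hu (Subgroup.mem_top g)
    (by rw [BlockSections.cj_zpowers, hg]; exact hv)
  refine ⟨w, hw, ?_⟩
  have hzu : z * u = u * z :=
    (Subgroup.mem_centralizer_iff.1 (Subgroup.mem_inf.1 hz).2 u (Subgroup.mem_zpowers u)).symm
  rw [← hg, mul_inv_rev]
  calc w * u * w⁻¹ = w * (u * z) * z⁻¹ * w⁻¹ := by group
    _ = _ := by rw [← hzu]; group

/-- The class functions of `P` are stable. -/
theorem stableFun_of_nilp {F : G → ℂ} (hF : ∀ w ∈ P, ∀ v ∈ P, F (w * v * w⁻¹) = F v) :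
    StableFun p P e0 F := by
  intro u g c hu hgu
  obtain ⟨w, hw, hwu⟩ := exists_mem_conj_eq hM hB hmax hnil hu rfl hgu
  rw [← hwu, hF w hw u (hu.le (Subgroup.mem_zpowers u))]

omit hnil in
/-- The pairing at a pair is invariant under conjugation. -/
theorem secPairing_conj {y : G} {c : MonoidAlgebra (Res M) G}
    (hc : IsBlockIdem (cenIn (⊤ : Subgroup G) (Subgroup.zpowers y)) c) (χ φ : IrrCharacter G)
    (h : G) : secPairing p (h * y * h⁻¹) (conjA h c) χ φ = secPairing p y c χ φ := by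
  have hy : ∀ g ∈ secSet p y, Commute (single g (1 : Res M)) c := fun g hg => by
    have h4 : IsBlockIdem (cenIn (⊤ : Subgroup G) (Subgroup.zpowers (ppart p g))) c := by
      rw [ppart_eq (mem_secSet.1 hg)]; exact hc
    exact (commute_block h4 0).1
  refine (Finset.sum_bij' (fun g _ => h * g * h⁻¹) (fun g _ => h⁻¹ * g * h) ?_ ?_ ?_ ?_ ?_).symm
  · intro g hg; exact mem_secSet.2 (Blocks.IsPPart.conj (mem_secSet.1 hg) h)
  · intro g hg
    have := Blocks.IsPPart.conj (mem_secSet.1 hg) h⁻¹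
    refine mem_secSet.2 ?_
    simpa [mul_assoc] using this
  · intro g _; group
  · intro g _; group
  · intro g hg; rw [val_conj χ h hc.mul_self (hy g hg), val_conj φ h hc.mul_self (hy g hg)]

omit hnil in
/-- The pairing at an element of `P` is the pairing of the parts in the centraliser. -/
theorem secPairing_eq_subPair {v : G} (hv : v ∈ P)
    [Fintype (Subgroup.centralizer ({v} : Set G))] (χ φ : IrrCharacter G) :
    secPairing p v (subIdem M _ (belowBlock (M := M) p P e0 v)) χ φ =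
      (Nat.card (Subgroup.centralizer ({v} : Set G)) : ℂ) *
        subPair (Subgroup.centralizer ({v} : Set G)) p (cenElem v) (belowBlock (M := M) p P e0 v)
          (belowBlock (M := M) p P e0 v) χ φ := by
  have hbl := (BlockSections.belowBlock_spec hM hB hmax hv).1
  rw [secPairing, sum_secSet_eq rfl (BlockSections.isPElem_of_mem hM hB hmax hv)
    (yC := cenElem v) rfl, subPair, ← mul_assoc,
    mul_inv_cancel₀ (Nat.cast_ne_zero.2 Nat.card_pos.ne'), one_mul]
  refine Finset.sum_congr rfl fun s _ => ?_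
  rw [val_subIdem χ _ hbl, val_subIdem φ _ hbl]

open scoped Classical in
/-- A sum over the pairs is a sum over the defect group. -/
theorem card_mul_pairSum {F : G → ℂ} (hF : ∀ w ∈ P, ∀ v ∈ P, F (w * v * w⁻¹) = F v)
    (χ φ : IrrCharacter G) :
    (Nat.card P : ℂ) * pairSum p P e0 F χ φ =
      (Nat.card G : ℂ) * ∑ v : P,
        (Nat.card ↥(P ⊓ Subgroup.centralizer ({(v : G)} : Set G)) : ℂ) /
          (Nat.card (Subgroup.centralizer ({(v : G)} : Set G)) : ℂ) *
          (F v * secPairing p (v : G)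
            (subIdem M _ (belowBlock (M := M) p P e0 (v : G))) χ φ) := by
  classical
  have hb := isBlockIdem_redElem_blockCoeff (M := M) hB
  have hstab := stableFun_of_nilp hM hB hmax hnil hF
  set eB := redElem M (blockCoeff B)
  set β : G → MonoidAlgebra (Res M) G := fun v => subIdem M _ (belowBlock (M := M) p P e0 v)
    with hβ
  set Φ : G × P → G × MonoidAlgebra (Res M) G :=
    fun x => (x.1 * (x.2 : G) * x.1⁻¹, conjA x.1 (β x.2)) with hΦ
  set W : G × MonoidAlgebra (Res M) G → ℂ :=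
    fun π => LamF p P e0 F π.1 π.2 * secPairing p π.1 π.2 χ φ with hW
  set Pairs : Finset (G × MonoidAlgebra (Res M) G) :=
    (Finset.univ.filter (fun y : G => ∃ k : ℕ, orderOf y = p ^ k)).biUnion
      fun y => ((blocksAt M y).filter fun c =>
        PairOf p (⊤ : Subgroup G) eB (Subgroup.zpowers y) c).image (Prod.mk y) with hPairs
  have hmemPairs : ∀ π, π ∈ Pairs ↔ (∃ k : ℕ, orderOf π.1 = p ^ k) ∧
      PairOf p (⊤ : Subgroup G) eB (Subgroup.zpowers π.1) π.2 := by
    rintro ⟨y, c⟩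
    simp only [hPairs, Finset.mem_biUnion, Finset.mem_filter, Finset.mem_univ, true_and,
      Finset.mem_image, Prod.mk.injEq]
    constructor
    · rintro ⟨y', hy', c', ⟨-, hc'⟩, rfl, rfl⟩; exact ⟨hy', hc'⟩
    · rintro ⟨hy, hc⟩; exact ⟨y, hy, c, ⟨mem_blockIdems.2 hc.1.2.2, hc⟩, rfl, rfl⟩
  have hlhs : pairSum p P e0 F χ φ = ∑ π ∈ Pairs, W π := by
    rw [hPairs, pairSum, Finset.sum_biUnion]
    · refine Finset.sum_congr rfl fun y _ => ?_
      rw [Finset.sum_image (fun a _ b _ h => (Prod.mk.injEq _ _ _ _ ▸ h).2), Finset.sum_filter]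
      refine Finset.sum_congr rfl fun c _ => ?_
      split_ifs with hp
      · rfl
      · rw [LamF_eq_zero_of_not_pairOf hb hmax F hp, zero_mul]
    · intro y _ y' _ hne
      refine Finset.disjoint_left.2 fun π h h' => hne ?_
      obtain ⟨c, -, rfl⟩ := Finset.mem_image.1 h
      obtain ⟨c', -, h''⟩ := Finset.mem_image.1 h'
      exact (congrArg Prod.fst h'').symm
  have hspec : ∀ v : P, PairLE p (⊤ : Subgroup G) (Subgroup.zpowers (v : G)) (β v) P e0 :=
    fun v => (BlockSections.belowBlock_spec hM hB hmax v.2).2.1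
  have hPhi_mem : ∀ x : G × P, Φ x ∈ Pairs := by
    intro x
    obtain ⟨k, hk⟩ := BlockSections.isPElem_of_mem hM hB hmax x.2.2
    refine (hmemPairs _).2 ⟨⟨k, by rw [← hk]; exact (MulAut.conj x.1).orderOf_eq (x.2 : G)⟩, ?_⟩
    have := ((hspec x.2).pairOf_iff hb).2 hmax.1 |>.conj hb (Subgroup.mem_top x.1)
    rwa [BlockSections.cj_zpowers] at this
  set a : P → ℕ := fun v => Nat.card ↥(P ⊓ Subgroup.centralizer ({(v : G)} : Set G)) with ha
  set cC : P → ℕ := fun v => Nat.card (Subgroup.centralizer ({(v : G)} : Set G)) with hcC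
  have hWPhi : ∀ x : G × P, W (Φ x) = F x.2 * secPairing p (x.2 : G) (β x.2) χ φ := by
    intro x
    have e1 : (1 : G) * (x.2 : G) * 1⁻¹ = x.2 := by group
    show LamF p P e0 F (x.1 * (x.2 : G) * x.1⁻¹) (conjA x.1 (β x.2)) *
      secPairing p (x.1 * (x.2 : G) * x.1⁻¹) (conjA x.1 (β x.2)) χ φ = _
    rw [LamF_conj hstab, LamF_eq hstab (x := 1) (by rw [conjA_one, e1]; exact hspec x.2), e1,
      secPairing_conj hM hB hmax ((hspec x.2).isPair_left hmax.1.1).2.2]
  have hfib : ∀ π ∈ Pairs, ∑ x ∈ Finset.univ.filter (fun x : G × P => Φ x = π),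
      (a x.2 : ℂ) / (cC x.2 : ℂ) = (Nat.card P : ℂ) := by
    intro π hπ
    obtain ⟨-, hpo⟩ := (hmemPairs π).1 hπ
    obtain ⟨c, -, hc⟩ := hpo.exists_conj_le hb hmax
    rw [BlockSections.cj_zpowers] at hc
    have hvP : c * π.1 * c⁻¹ ∈ P := hc.le (Subgroup.mem_zpowers _)
    set v0 : P := ⟨c * π.1 * c⁻¹, hvP⟩
    have hβ0 : β (v0 : G) = conjA c π.2 :=
      (existsUnique_pairLE hmax.1.1 (Subgroup.zpowers_le.2 hvP)).unique (hspec v0) hc
    have hstabP : ∀ t ∈ P, conjA t (β (v0 : G)) = β (t * (v0 : G) * t⁻¹) := fun t ht =>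
      (BlockSections.conjA_belowBlock hM hB hmax v0.2 (le_pairStab hmax.1.1 ht)).2
    set C := Subgroup.centralizer ({(v0 : G)} : Set G) with hC
    haveI := Fintype.ofFinite C
    have htP : ∀ t : P, (t : G) * (v0 : G) * (t : G)⁻¹ ∈ P := fun t =>
      mul_mem (mul_mem t.2 v0.2) (inv_mem t.2)
    let ψ : P × C → G × P := fun s =>
      (c⁻¹ * (s.2 : G) * (s.1 : G)⁻¹, ⟨(s.1 : G) * (v0 : G) * (s.1 : G)⁻¹, htP s.1⟩)
    have hψmem : ∀ s, ψ s ∈ Finset.univ.filter (fun x : G × P => Φ x = π) := by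
      intro s
      refine Finset.mem_filter.2 ⟨Finset.mem_univ _, ?_⟩
      have hcom : (s.2 : G) * (v0 : G) = (v0 : G) * (s.2 : G) :=
        Subgroup.mem_centralizer_singleton_iff.1 s.2.2
      refine Prod.ext ?_ ?_
      · show c⁻¹ * (s.2 : G) * (s.1 : G)⁻¹ * ((s.1 : G) * (v0 : G) * (s.1 : G)⁻¹) *
          (c⁻¹ * (s.2 : G) * (s.1 : G)⁻¹)⁻¹ = π.1
        rw [show c⁻¹ * (s.2 : G) * (s.1 : G)⁻¹ * ((s.1 : G) * (v0 : G) * (s.1 : G)⁻¹) *
          (c⁻¹ * (s.2 : G) * (s.1 : G)⁻¹)⁻¹ = c⁻¹ * ((s.2 : G) * (v0 : G) * (s.2 : G)⁻¹) * c by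
          group, hcom, mul_inv_cancel_right]
        show c⁻¹ * (c * π.1 * c⁻¹) * c = π.1
        group
      · show conjA (c⁻¹ * (s.2 : G) * (s.1 : G)⁻¹) (β ((s.1 : G) * (v0 : G) * (s.1 : G)⁻¹)) = π.2
        have hfix : conjA (s.2 : G) (β (v0 : G)) = β (v0 : G) :=
          (mem_ctr.1 (isBlockIdem_subIdem (M := M)
            (BlockSections.belowBlock_spec hM hB hmax v0.2).1).mem).2 _ s.2.2
        rw [← hstabP _ s.1.2, ← conjA_mul, inv_mul_cancel_right, conjA_mul, hfix, hβ0,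
          conjA_inv_conjA]
    have hwconst : ∀ t : P, a ⟨(t : G) * (v0 : G) * (t : G)⁻¹, htP t⟩ = a v0 ∧
        cC ⟨(t : G) * (v0 : G) * (t : G)⁻¹, htP t⟩ = cC v0 := by
      intro t
      simp only [ha, hcC]
      rw [BlockSections.centralizer_cj_singleton]
      refine ⟨?_, Subgroup.card_map_of_injective (MulAut.conj (t : G)).injective⟩
      rw [show P ⊓ cj (t : G) (Subgroup.centralizer ({(v0 : G)} : Set G)) =
          cj (t : G) (P ⊓ Subgroup.centralizer ({(v0 : G)} : Set G)) by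
        rw [cj_inf, cj_of_mem t.2]]
      exact Subgroup.card_map_of_injective (MulAut.conj (t : G)).injective
    have hsurj : ∀ x ∈ Finset.univ.filter (fun x : G × P => Φ x = π), ∃ s, ψ s = x := by
      intro x hx
      have hx' := (Finset.mem_filter.1 hx).2
      have h1 : x.1 * (x.2 : G) * x.1⁻¹ = π.1 := congrArg Prod.fst hx'
      have h2 : conjA x.1 (β x.2) = π.2 := congrArg Prod.snd hx'
      obtain ⟨t, ht, htv⟩ := exists_mem_conj_eq hM hB hmax hnil (hspec v0) (g := x.1⁻¹ * c⁻¹)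
        (v := (x.2 : G)) (by
          show x.1⁻¹ * c⁻¹ * (c * π.1 * c⁻¹) * (x.1⁻¹ * c⁻¹)⁻¹ = x.2
          rw [← h1]; group) (by
          rw [show conjA (x.1⁻¹ * c⁻¹) (β (v0 : G)) = β (x.2 : G) by
            rw [hβ0, conjA_mul, conjA_inv_conjA, ← h2, conjA_inv_conjA]]
          exact hspec x.2)
      refine ⟨(⟨t, ht⟩, ⟨c * x.1 * t, ?_⟩), ?_⟩
      · rw [hC, Subgroup.mem_centralizer_singleton_iff]
        calc c * x.1 * t * (v0 : G) = c * x.1 * (t * (v0 : G) * t⁻¹) * t := by group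
          _ = c * (x.1 * (x.2 : G) * x.1⁻¹) * c⁻¹ * (c * x.1 * t) := by rw [htv]; group
          _ = (v0 : G) * (c * x.1 * t) := by rw [h1]
      · refine Prod.ext ?_ (Subtype.ext htv)
        show c⁻¹ * (c * x.1 * t) * t⁻¹ = x.1
        group
    have hcount : (Finset.univ.filter (fun x : G × P => Φ x = π)).card * a v0 =
        Nat.card P * cC v0 := by
      simp only [ha, hcC, ← hC]
      rw [Nat.card_eq_fintype_card (α := P), Nat.card_eq_fintype_card (α := C),
        ← Fintype.card_prod, ← Finset.card_univ (α := P × C),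
        Finset.card_eq_sum_card_fiberwise (f := ψ) (fun s _ => hψmem s), ← smul_eq_mul,
        ← Finset.sum_const]
      refine Finset.sum_congr rfl fun x hx => ?_
      obtain ⟨⟨t, z⟩, rfl⟩ := hsurj x hx
      rw [Nat.card_eq_fintype_card, ← Finset.card_univ]
      refine Finset.card_bij (fun r _ => ((t * ⟨(r : G), (Subgroup.mem_inf.1 r.2).1⟩ : P),
        (z * ⟨(r : G), (Subgroup.mem_inf.1 r.2).2⟩ : C))) (fun r _ => ?_)
        (fun r _ r' _ h => Subtype.ext (by simpa using congrArg (fun q => ((q.2 : C) : G)) h))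
        (fun s hs => ?_)
      · refine Finset.mem_filter.2 ⟨Finset.mem_univ _, Prod.ext ?_ (Subtype.ext ?_)⟩
        · show c⁻¹ * ((z : G) * (r : G)) * ((t : G) * (r : G))⁻¹ = c⁻¹ * (z : G) * (t : G)⁻¹
          group
        · show (t : G) * (r : G) * (v0 : G) * ((t : G) * (r : G))⁻¹ =
            (t : G) * (v0 : G) * (t : G)⁻¹
          have hr := Subgroup.mem_centralizer_singleton_iff.1 (Subgroup.mem_inf.1 r.2).2
          rw [mul_assoc (t : G) (r : G), hr]
          group
      · have hs' := (Finset.mem_filter.1 hs).2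
        have h1 : c⁻¹ * (s.2 : G) * (s.1 : G)⁻¹ = c⁻¹ * (z : G) * (t : G)⁻¹ :=
          congrArg Prod.fst hs'
        have h2 : (s.1 : G) * (v0 : G) * (s.1 : G)⁻¹ = (t : G) * (v0 : G) * (t : G)⁻¹ :=
          congrArg (fun q : G × P => (q.2 : G)) hs'
        refine ⟨⟨(t : G)⁻¹ * (s.1 : G), Subgroup.mem_inf.2 ⟨mul_mem (inv_mem t.2) s.1.2, ?_⟩⟩,
          Finset.mem_univ _, ?_⟩
        · rw [Subgroup.mem_centralizer_singleton_iff]
          calc (t : G)⁻¹ * (s.1 : G) * (v0 : G)
              = (t : G)⁻¹ * ((s.1 : G) * (v0 : G) * (s.1 : G)⁻¹) * (s.1 : G) := by group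
            _ = (v0 : G) * ((t : G)⁻¹ * (s.1 : G)) := by rw [h2]; group
        · refine Prod.ext (Subtype.ext (mul_inv_cancel_left _ _)) (Subtype.ext ?_)
          show (z : G) * ((t : G)⁻¹ * (s.1 : G)) = (s.2 : G)
          calc (z : G) * ((t : G)⁻¹ * (s.1 : G)) = c * (c⁻¹ * (z : G) * (t : G)⁻¹) * (s.1 : G) := by
                group
            _ = _ := by rw [← h1]; group
    rw [Finset.sum_congr rfl (g := fun _ => (a v0 : ℂ) / (cC v0 : ℂ)) (fun x hx => by
      obtain ⟨s, rfl⟩ := hsurj x hx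
      show (a ⟨(s.1 : G) * (v0 : G) * (s.1 : G)⁻¹, htP s.1⟩ : ℂ) /
        (cC ⟨(s.1 : G) * (v0 : G) * (s.1 : G)⁻¹, htP s.1⟩ : ℂ) = (a v0 : ℂ) / (cC v0 : ℂ)
      rw [(hwconst s.1).1, (hwconst s.1).2]), Finset.sum_const, nsmul_eq_mul, ← mul_div_assoc,
      ← Nat.cast_mul, hcount, Nat.cast_mul, mul_div_assoc,
      div_self (Nat.cast_ne_zero.2 Nat.card_pos.ne'), mul_one]
  rw [hlhs, Finset.mul_sum]
  calc ∑ π ∈ Pairs, (Nat.card P : ℂ) * W π
      = ∑ π ∈ Pairs, ∑ x ∈ Finset.univ.filter (fun x : G × P => Φ x = π),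
          (a x.2 : ℂ) / (cC x.2 : ℂ) * W (Φ x) := by
        refine Finset.sum_congr rfl fun π hπ => ?_
        rw [← hfib π hπ, Finset.sum_mul]
        exact Finset.sum_congr rfl fun x hx => by rw [(Finset.mem_filter.1 hx).2]
    _ = ∑ x : G × P, (a x.2 : ℂ) / (cC x.2 : ℂ) * W (Φ x) :=
        Finset.sum_fiberwise_of_maps_to (fun x _ => hPhi_mem x) _
    _ = _ := by
        rw [Fintype.sum_prod_type, Finset.sum_congr rfl (g := fun _ : G => ∑ v : P,
          (a v : ℂ) / (cC v : ℂ) * (F v * secPairing p (v : G) (β v) χ φ))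
          (fun g _ => Finset.sum_congr rfl fun v _ => by rw [hWPhi]),
          Finset.sum_const, Finset.card_univ, ← Nat.card_eq_fintype_card, nsmul_eq_mul]

end CfsgLib.BlockStar
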