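import Cfsg.Agent.Lib.BlockStar.LocalRank
import Cfsg.Agent.Lib.BlockStar.Multiplicity

/-!
# Abelian defect groups and elements fixed by the inertial group

If an element of an abelian defect group is fixed by the inertial group, the block and its block in
the centraliser of the element have the same rank and the same number of characters.
-/

set_option autoImplicit false
set_option linter.style.haveILetI false
set_option linter.unusedSectionVars false

noncomputable section

namespace CfsgLib.BlockStar

open Cfsg CfsgLib.Blocks MonoidAlgebra CfsgLib.BrauerPairs CfsgLib.BrauerCharacters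
open CfsgLib.BlockSections (belowBlock)

universe w

/-- The rank statement for one group. -/
def FixedRank (p : ℕ) (M : Ideal AlgInt) [M.IsPrime] (G : Type w) [Group G] [Finite G] : Prop :=
  ∀ (B : Set (IrrCharacter G)) (P : Subgroup G) (e : MonoidAlgebra (Res M) G), IsPBlock M B →
    IsMaxPair p (⊤ : Subgroup G) (redElem M (blockCoeff B)) P e →
    (∀ x ∈ P, ∀ y ∈ P, x * y = y * x) →
    ∀ u ∈ P, (∀ t ∈ pairStab (⊤ : Subgroup G) P e, t * u * t⁻¹ = u) →
      blockRank p B = blockRank p (belowBlock (M := M) p P e u)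

variable {p : ℕ} [Fact p.Prime] {M : Ideal AlgInt} [M.IsPrime] [CharP (Res M) p]
  [IsAlgClosed (Res M)]

theorem fixed_local {G : Type w} [Group G] {P : Subgroup G} {e : MonoidAlgebra (Res M) G}
    (hab : ∀ x ∈ P, ∀ y ∈ P, x * y = y * x) {x : G} (hx : x ∈ P)
    {e' : MonoidAlgebra (Res M) (Subgroup.centralizer ({x} : Set G))} [Finite G]
    (he' : mapG (Subgroup.centralizer ({x} : Set G)).subtype e' = e) {u : G} (hu : u ∈ P)
    (hfix : ∀ t ∈ pairStab (⊤ : Subgroup G) P e, t * u * t⁻¹ = u) :
    ∀ t ∈ pairStab (⊤ : Subgroup (Subgroup.centralizer ({x} : Set G)))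
        (P.subgroupOf (Subgroup.centralizer ({x} : Set G))) e',
      t * ⟨u, le_centralizer_of_mem hab hx hu⟩ * t⁻¹ =
        (⟨u, le_centralizer_of_mem hab hx hu⟩ : Subgroup.centralizer ({x} : Set G)) :=
  fun t ht => Subtype.ext (hfix t ((mem_pairStab_local hab hx he' t).1 ht))

variable (hM : IsPModular p M)
include hM

/-- The rank at `x` from the statement for the centraliser of `x`. -/
theorem blockRank_eq_pairRank {G : Type w} [Group G] [Finite G] {B : Set (IrrCharacter G)}
    {P : Subgroup G} {e : MonoidAlgebra (Res M) G} (hB : IsPBlock M B)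
    (hmax : IsMaxPair p (⊤ : Subgroup G) (redElem M (blockCoeff B)) P e)
    (hab : ∀ x ∈ P, ∀ y ∈ P, x * y = y * x) {x : G} (hx : x ∈ P)
    (hkey : FixedRank p M (Subgroup.centralizer ({x} : Set G))) {u : G} (hu : u ∈ P)
    (hfix : ∀ t ∈ pairStab (⊤ : Subgroup G) P e, t * u * t⁻¹ = u) :
    blockRank p (belowBlock (M := M) p P e x) =
      pairRank (M := M) p P e (Subgroup.zpowers x ⊔ Subgroup.zpowers u) := by
  obtain ⟨e', he', hmax'⟩ := exists_local hM hB hmax hab hx
  rw [hkey _ _ e' (BlockSections.belowBlock_spec hM hB hmax hx).1 hmax' (abelian_local hab _)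
    ⟨u, le_centralizer_of_mem hab hx hu⟩ (Subgroup.mem_subgroupOf.2 hu)
    (fixed_local hab hx he' hu hfix)]
  exact blockRank_belowBlock_local hM hB hmax hab hx he' hmax' hu

/-- An element fixed by the inertial group does not change the rank. -/
theorem fixedRank [M.IsMaximal] :
    ∀ (G : Type w) [Group G] [Finite G], FixedRank p M G := by
  suffices h : ∀ n : ℕ, ∀ (G : Type w) [Group G] [Finite G], Nat.card G = n → FixedRank p M G from
    fun G _ _ => h _ G rfl
  intro n
  induction n using Nat.strong_induction_on with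
  | _ n ih =>
  intro G _ _ hn B P e hB hmax hab u hu hfix
  classical
  haveI := Fintype.ofFinite G
  have hb := isBlockIdem_redElem_blockCoeff (M := M) hB
  obtain ⟨N, hcomm, hmove, hNfix⟩ := exists_moved hb hmax hab
  set T := pairStab (⊤ : Subgroup G) P e with hT
  have h1 := sum_weight_coset hM hB hmax hab hcomm hmove 1
  have h2 := sum_weight_coset hM hB hmax hab hcomm hmove ⟨u, hu⟩
  have h3 := Nat.eq_of_mul_eq_mul_left (Nat.pos_of_ne_zero Subgroup.index_ne_zero_of_finite)
    (h1.symm.trans h2)
  rw [← Fintype.sum_equiv (Equiv.mulLeft (⟨u, hu⟩ : P))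
    (fun m : P => if m ∈ N then weight (M := M) p P e (u * (m : G)) else 0)
    (fun v : P => if (⟨u, hu⟩ : P)⁻¹ * v ∈ N then weight (M := M) p P e (v : G) else 0)
    (fun m => by simp)] at h3
  simp only [inv_one, one_mul] at h3
  rw [← Finset.add_sum_erase _ _ (Finset.mem_univ (1 : P)),
    ← Finset.add_sum_erase _ _ (Finset.mem_univ (1 : P))] at h3
  rw [Finset.sum_congr rfl (g := fun m : P =>
    if m ∈ N then weight (M := M) p P e (u * (m : G)) else 0) ?_] at h3
  · have h4 := Nat.add_right_cancel h3
    simp only [N.one_mem, if_true, OneMemClass.coe_one] at h4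
    rw [mul_one] at h4
    simp only [weight] at h4
    have hT1 : T ⊓ Subgroup.centralizer ({(1 : G)} : Set G) = T :=
      inf_eq_left.2 fun t _ => Subgroup.mem_centralizer_singleton_iff.2 (by simp)
    have hTu : T ⊓ Subgroup.centralizer ({u} : Set G) = T :=
      inf_eq_left.2 fun t ht => Subgroup.mem_centralizer_singleton_iff.2
        (mul_inv_eq_iff_eq_mul.1 (hfix t ht))
    rw [hT1, hTu, blockRank_belowBlock_one hM hB hmax] at h4
    exact Nat.eq_of_mul_eq_mul_left Nat.card_pos h4
  intro m hm
  have hm1 : m ≠ 1 := (Finset.mem_erase.1 hm).1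
  split_ifs with hmN
  swap
  · rfl
  have hmP := m.2
  have humP : u * (m : G) ∈ P := mul_mem hu hmP
  have hstep : ∀ x ∈ P, Subgroup.centralizer ({x} : Set G) ≠ ⊤ →
      blockRank p (belowBlock (M := M) p P e x) =
        pairRank (M := M) p P e (Subgroup.zpowers x ⊔ Subgroup.zpowers u) := by
    intro x hx hne
    refine blockRank_eq_pairRank hM hB hmax hab hx (ih _ ?_ _ rfl) hu hfix
    rw [← hn]
    exact lt_of_le_of_ne (Nat.card_le_card_of_injective _ Subtype.val_injective)
      fun h => hne (Subgroup.eq_top_of_card_eq _ h)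
  have hiff : ∀ t ∈ T, t * (u * (m : G)) * t⁻¹ = u * (m : G) ↔ t * (m : G) * t⁻¹ = m := by
    intro t ht
    rw [show t * (u * (m : G)) * t⁻¹ = (t * u * t⁻¹) * (t * (m : G) * t⁻¹) by group, hfix t ht,
      mul_right_inj]
  have hcT : ∀ {t x : G}, Subgroup.centralizer ({x} : Set G) = ⊤ → t * x * t⁻¹ = x := by
    intro t x h
    have ht : t ∈ Subgroup.centralizer ({x} : Set G) := h ▸ Subgroup.mem_top t
    exact mul_inv_eq_iff_eq_mul.2 (Subgroup.mem_centralizer_singleton_iff.1 ht)
  have hne1 : Subgroup.centralizer ({(m : G)} : Set G) ≠ ⊤ := fun h =>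
    hm1 (hNfix m hmN fun t _ => hcT h)
  have hne2 : Subgroup.centralizer ({u * (m : G)} : Set G) ≠ ⊤ := fun h =>
    hm1 (hNfix m hmN fun t ht => (hiff t ht).1 (hcT h))
  have hsup : Subgroup.zpowers (u * (m : G)) ⊔ Subgroup.zpowers u =
      Subgroup.zpowers (m : G) ⊔ Subgroup.zpowers u := by
    refine le_antisymm (sup_le (Subgroup.zpowers_le.2 ?_) le_sup_right)
      (sup_le (Subgroup.zpowers_le.2 ?_) le_sup_right)
    · exact mul_mem (Subgroup.mem_sup_right (Subgroup.mem_zpowers u))
        (Subgroup.mem_sup_left (Subgroup.mem_zpowers _))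
    · simpa using mul_mem
        (inv_mem (Subgroup.mem_sup_right (S := Subgroup.zpowers (u * (m : G)))
          (Subgroup.mem_zpowers u)))
        (Subgroup.mem_sup_left (T := Subgroup.zpowers u) (Subgroup.mem_zpowers (u * (m : G))))
  have hTm : T ⊓ Subgroup.centralizer ({u * (m : G)} : Set G) =
      T ⊓ Subgroup.centralizer ({(m : G)} : Set G) := by
    ext t
    simp only [Subgroup.mem_inf, Subgroup.mem_centralizer_singleton_iff]
    exact and_congr_right fun ht =>
      mul_inv_eq_iff_eq_mul.symm.trans ((hiff t ht).trans mul_inv_eq_iff_eq_mul)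
  rw [weight, weight, hstep _ hmP hne1, hstep _ humP hne2, hsup, hTm]

/-- **Watanabe's theorem.** -/
theorem counts_eq_of_fixed [M.IsMaximal] {G : Type w} [Group G] [Finite G]
    {B : Set (IrrCharacter G)} {P : Subgroup G} {e : MonoidAlgebra (Res M) G} (hB : IsPBlock M B)
    (hmax : IsMaxPair p (⊤ : Subgroup G) (redElem M (blockCoeff B)) P e)
    (hab : ∀ x ∈ P, ∀ y ∈ P, x * y = y * x) {u : G} (hu : u ∈ P)
    (hfix : ∀ t ∈ pairStab (⊤ : Subgroup G) P e, t * u * t⁻¹ = u) :
    blockRank p B = blockRank p (belowBlock (M := M) p P e u) ∧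
      Nat.card B = Nat.card (belowBlock (M := M) p P e u) := by
  classical
  haveI := Fintype.ofFinite G
  haveI := Fintype.ofFinite (Subgroup.centralizer ({u} : Set G))
  have hl := fixedRank hM G B P e hB hmax hab u hu hfix
  refine ⟨hl, ?_⟩
  obtain ⟨e', he', hmax'⟩ := exists_local hM hB hmax hab hu
  have hbl := (BlockSections.belowBlock_spec hM hB hmax hu).1
  have h1 := BlockSections.card_block_mul_card_stab hM hB hmax hab
  have h2 := BlockSections.card_block_mul_card_stab hM hbl hmax' (abelian_local hab _)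
  set T := pairStab (⊤ : Subgroup G) P e with hT
  set T' := pairStab (⊤ : Subgroup (Subgroup.centralizer ({u} : Set G)))
    (P.subgroupOf (Subgroup.centralizer ({u} : Set G))) e' with hT'
  have hTC : ∀ t ∈ T, t ∈ Subgroup.centralizer ({u} : Set G) := fun t ht =>
    Subgroup.mem_centralizer_singleton_iff.2 (mul_inv_eq_iff_eq_mul.1 (hfix t ht))
  have hinj := (Subgroup.centralizer ({u} : Set G)).subtype_injective
  have hmapT : T'.map (Subgroup.centralizer ({u} : Set G)).subtype = T := by
    ext t
    constructor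
    · rintro ⟨s, hs, rfl⟩
      exact (mem_pairStab_local hab hu he' s).1 hs
    · exact fun ht => ⟨⟨t, hTC t ht⟩, (mem_pairStab_local hab hu he' _).2 ht, rfl⟩
  have hcardT : Nat.card T' = Nat.card T := by
    rw [← hmapT, Subgroup.card_map_of_injective hinj]
  have hPC := le_centralizer_of_mem hab hu
  have hsum : ∑ v ∈ Finset.univ.filter
      (fun v : Subgroup.centralizer ({u} : Set G) =>
        v ∈ P.subgroupOf (Subgroup.centralizer ({u} : Set G)) ∧ v ≠ 1),
        Nat.card ↥(T' ⊓ Subgroup.centralizer ({v} : Set (Subgroup.centralizer ({u} : Set G)))) *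
          blockRank p (belowBlock (M := M) p
            (P.subgroupOf (Subgroup.centralizer ({u} : Set G))) e' v) =
      ∑ v ∈ Finset.univ.filter (fun v : G => v ∈ P ∧ v ≠ 1),
        Nat.card ↥(T ⊓ Subgroup.centralizer ({v} : Set G)) *
          blockRank p (belowBlock (M := M) p P e v) := by
    refine Finset.sum_bij (fun v _ => (v : G)) (fun v hv => ?_) (fun v _ v' _ h => Subtype.ext h)
      (fun v hv => ?_) (fun v hv => ?_)
    · simpa [Subgroup.mem_subgroupOf] using hv
    · have hv' := (Finset.mem_filter.1 hv).2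
      exact ⟨⟨v, hPC hv'.1⟩, by simpa [Subgroup.mem_subgroupOf] using hv', rfl⟩
    have hvP : (v : G) ∈ P := (Finset.mem_filter.1 hv).2.1
    rw [blockRank_belowBlock_local hM hB hmax hab hu he' hmax' hvP,
      blockRank_eq_pairRank hM hB hmax hab hvP (fixedRank hM _) hu hfix,
      sup_comm (Subgroup.zpowers u)]
    congr 1
    rw [← Subgroup.card_map_of_injective (K := T' ⊓ Subgroup.centralizer
      ({v} : Set (Subgroup.centralizer ({u} : Set G)))) hinj]
    congr 2
    rw [Subgroup.map_inf _ _ _ hinj, hmapT]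
    ext t
    simp only [Subgroup.mem_inf, Subgroup.mem_map]
    refine and_congr_right fun ht => ⟨?_, fun h => ⟨⟨t, hTC t ht⟩, ?_, rfl⟩⟩
    · rintro ⟨s, hs, rfl⟩
      exact Subgroup.mem_centralizer_singleton_iff.2
        (congrArg Subtype.val (Subgroup.mem_centralizer_singleton_iff.1 hs))
    · exact Subgroup.mem_centralizer_singleton_iff.2
        (Subtype.ext (Subgroup.mem_centralizer_singleton_iff.1 h))
  rw [hcardT, ← hl] at h2
  refine (Nat.eq_of_mul_eq_mul_right (Nat.card_pos (α := T)) (h2.trans ?_)).symm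
  rw [h1]
  refine congrArg (blockRank p B * Nat.card T + ·) ?_
  convert hsum using 2
  ext v
  simp

end CfsgLib.BlockStar
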